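import Cfsg.Statements.S3333
import Cfsg.Agent.H8.CC9
import Cfsg.Agent.H8.Sym6

set_option autoImplicit false
open Cfsg

namespace Cfsg.Agent.S3333

open CfsgH8 CfsgH8.D8

theorem m1 : ∀ m : M, lr m = 1 → ∀ a b : Fin 3, (a ≠ 0 ∨ b ≠ 0) →
    m * ⟨a, b, false, false, false⟩ = ⟨a, b, false, false, false⟩ * m → m ^ 3 = 1 := by
  decide +kernel

theorem m2 : ∀ a b : Fin 3, ∃ m : M, lr m = -1 ∧
    m * ⟨a, b, false, false, false⟩ = ⟨a, b, false, false, false⟩ * m := by
  decide +kernel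

theorem m3 : ∀ g : M, g * g1 * g⁻¹ ≠ gd := by decide +kernel

theorem m4 : ∀ m : M, lr m = 1 ∨ lr m = -1 := by decide +kernel

theorem m5 : ∀ m : M, m ^ 3 = 1 → lr m = 1 := by decide +kernel


/-- Let G be a finite group with a Sylow 3-subgroup S of order 9 that is its own centralizer, with N_G(S)/S dihedral of order 8, and such that C_G(x) ≤ N_G(S) for every non-identity x in S. Then S is normal in G or G is isomorphic to the symmetric group of degree 6. -/
theorem result {G : Type*} [Group G] [Finite G]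
    (P : Sylow 3 G) (S : Subgroup G) (hSP : S = P) (hcard : Nat.card S = 9)
    (hC : Subgroup.centralizer (S : Set G) = S)
    (eN : Subgroup.normalizer (S : Set G) ⧸ S.subgroupOf (Subgroup.normalizer (S : Set G)) ≃* DihedralGroup 4)
    (hcent : ∀ x ∈ S, x ≠ 1 → Subgroup.centralizer ({x} : Set G) ≤ Subgroup.normalizer (S : Set G)) :
    S.Normal ∨ Nonempty (G ≃* Equiv.Perm (Fin 6)) := by
  subst hSP
  have := Fact.mk Nat.prime_three
  have hN : Nat.card (Subgroup.normalizer ((P : Subgroup G) : Set G)) = 72 := by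
    rw [Subgroup.card_eq_card_quotient_mul_card_subgroup ((P : Subgroup G).subgroupOf _),
      Nat.card_congr eN.toEquiv, DihedralGroup.nat_card,
      Nat.card_congr (Subgroup.subgroupOfEquivOfLe Subgroup.le_normalizer).toEquiv, hcard]
  obtain ⟨T⟩ : Nonempty (Sylow 2 (Subgroup.normalizer ((P : Subgroup G) : Set G))) := inferInstance
  have hT : Nat.card (T : Subgroup (Subgroup.normalizer ((P : Subgroup G) : Set G))) = 8 := by
    rw [T.card_eq_multiplicity, hN, show 72 = 2 ^ 3 * 9 from rfl,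
      Nat.factorization_mul (by norm_num) (by norm_num), Nat.Prime.factorization_pow Nat.prime_two,
      Finsupp.add_apply, Nat.factorization_eq_zero_of_not_dvd (by norm_num)]
    simp
  let e := MulEquiv.ofBijective (eN.toMonoidHom.comp ((QuotientGroup.mk' _).comp
      (T : Subgroup (Subgroup.normalizer ((P : Subgroup G) : Set G))).subtype)) (by
    rw [Nat.bijective_iff_injective_and_card, hT, DihedralGroup.nat_card, injective_iff_map_eq_one]
    refine ⟨fun t ht => ?_, rfl⟩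
    have h1 : ((t : Subgroup.normalizer ((P : Subgroup G) : Set G)) : G) ∈ (P : Subgroup G) :=
      (QuotientGroup.eq_one_iff (N := (P : Subgroup G).subgroupOf _)
        (t : Subgroup.normalizer ((P : Subgroup G) : Set G))).mp ((map_eq_one_iff _ eN.injective).mp ht)
    have h2 : t ^ 9 = 1 := Subtype.ext (Subtype.ext (by
      have := congrArg Subtype.val (pow_card_eq_one' (x := (⟨_, h1⟩ : (P : Subgroup G))))
      rwa [hcard] at this))
    have h3 : t ^ 8 = 1 := hT ▸ pow_card_eq_one'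
    rwa [pow_succ, h3, one_mul] at h2)
  let φ : DihedralGroup 4 →* G := (Subgroup.subtype _).comp ((Subgroup.subtype _).comp
    e.symm.toMonoidHom)
  have hφ : Function.Injective φ :=
    Subtype.val_injective.comp (Subtype.val_injective.comp e.symm.injective)
  obtain ⟨f, hf, hfr, hfS, k, hk⟩ := CfsgH8.D8.main P hcard hC hN hcent
    (r := φ (DihedralGroup.r 1)) (s := φ (DihedralGroup.sr 0)) (Subtype.prop _) (Subtype.prop _)
    (by rw [← map_pow, map_eq_one_iff φ hφ]; decide) (by rw [← map_mul, map_eq_one_iff φ hφ]; decide)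
    (by rw [← map_mul, ← map_mul, ← map_inv]; congr 1)
    (by rw [← map_pow, Ne, map_eq_one_iff φ hφ]; decide) (by rw [Ne, map_eq_one_iff φ hφ]; decide)
  have hker : ∀ m, f m ∈ k.ker ↔ lr m = 1 := fun m => by
    rw [MonoidHom.mem_ker, hk, Int.cast_eq_one]
  have hSK : (P : Subgroup G) ≤ k.ker := fun g hg => by
    obtain ⟨m, hm, rfl⟩ := (hfS g).mp hg
    exact (hker m).mpr (m5 m hm)
  have hV : ∀ s ∈ (P : Subgroup G), ∃ a b, s = f ⟨a, b, false, false, false⟩ := fun s hs => by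
    obtain ⟨⟨a, b, s, t, w⟩, hm, rfl⟩ := (hfS s).mp hs
    obtain ⟨rfl, rfl, rfl⟩ := (cube_iff _).mp hm
    exact ⟨a, b, rfl⟩
  have h3 : ∀ s ∈ (P : Subgroup G), s ^ 3 = 1 := fun s hs => by
    obtain ⟨m, hm, rfl⟩ := (hfS s).mp hs
    rw [← map_pow, hm, map_one]
  have hcc : CC9 ((P : Subgroup G).subgroupOf k.ker) := by
    refine ⟨(Nat.card_congr (Subgroup.subgroupOfEquivOfLe hSK).toEquiv).trans hcard,
      fun a ha => Subtype.ext (h3 a ha), fun s hs hs1 => ?_⟩
    ext g
    rw [Subgroup.mem_centralizer_singleton_iff, Subgroup.mem_subgroupOf, Subtype.ext_iff]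
    refine ⟨fun hg => ?_, fun hg => (hC.ge hs) _ hg⟩
    have hs2 : (s : G) ≠ 1 := fun e => hs1 (Subtype.ext e)
    obtain ⟨m, hm⟩ : (g : G) ∈ f.range :=
      hfr ▸ hcent s hs hs2 (Subgroup.mem_centralizer_singleton_iff.mpr hg)
    obtain ⟨a, b, hab⟩ := hV s hs
    refine (hfS _).mpr ⟨m, m1 m ((hker m).mp (hm ▸ g.2)) a b ?_ (hf ?_), hm⟩
    · by_contra hc
      push Not at hc
      exact hs2 (by rw [hab, hc.1, hc.2]; exact f.map_one)
    · rw [map_mul, map_mul, hm, ← hab]
      exact hg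
  have hA := isTIModel hf hfS hfr hcent
  have hg1 : f g1 ∈ (P : Subgroup G) := (hfS _).mpr ⟨g1, by decide, rfl⟩
  have hgd : f gd ∈ (P : Subgroup G) := (hfS _).mpr ⟨gd, by decide, rfl⟩
  have hg1' : f g1 ≠ 1 := by rw [Ne, map_eq_one_iff f hf]; decide
  rcases hcc.normal_or_alt6 (a := ⟨_, hSK hg1⟩) (b := ⟨_, hSK hgd⟩) hg1 hgd
    (fun e => hg1' (congrArg Subtype.val e))
    (fun e => absurd ((map_eq_one_iff f hf).mp (congrArg Subtype.val e)) (by decide)) (fun e => by
      obtain ⟨g, hg⟩ := isConj_iff.mp (k.ker.subtype.map_isConj e)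
      obtain ⟨m, rfl⟩ := hA g1 gd (by decide) (by decide) g hg
      exact m3 m (hf (by simpa using hg))) with h | ⟨⟨e6⟩⟩
  · refine Or.inl ⟨fun s hs g => hcc.mem_of_cube (g := ⟨g * s * g⁻¹, k.normal_ker.conj_mem s (hSK hs) g⟩)
      (by rw [Subgroup.normalizer_eq_top]; trivial) (Subtype.ext ?_)⟩
    change (g * s * g⁻¹) ^ 3 = 1
    rw [conj_pow, h3 s hs]; simp
  refine Or.inr (sym6_of_index_two (K := k.ker) ?_ e6 (fun x hx hx3 => ?_) fun c hc => ?_)
  · rw [Subgroup.index_eq_two_iff']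
    refine ⟨f gS, fun g => ?_⟩
    obtain ⟨c, hc, h⟩ := ((CfsgH6.sylIn_top_of_sylow P).of_le hSK le_top).frattini (g := g)
      ((CfsgH5.Nrm.of_normal ⊤ k.ker).cj_eq trivial)
    obtain ⟨m, hm⟩ : c * g ∈ f.range := hfr ▸ CfsgH6.mem_normalizer_iff_cj.mpr h
    have h1 : k g = lr m := by rw [← hk, hm, map_mul, MonoidHom.mem_ker.mp hc, one_mul]
    rw [MonoidHom.mem_ker, MonoidHom.mem_ker, map_mul, hk, h1, show lr gS = -1 by decide]
    rcases m4 m with h2 | h2 <;> rw [h2] <;> norm_num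
  · obtain ⟨g, hg⟩ := hcc.exists_conj_mem (s := ⟨x, hx⟩) (Subtype.ext hx3)
    obtain ⟨a, b, hab⟩ := hV _ hg
    obtain ⟨m, hm, hm'⟩ := m2 a b
    refine ⟨(g : G)⁻¹ * f m * g, fun h => ?_, ?_⟩
    · rw [mul_mem_cancel_right g.2, mul_mem_cancel_left (inv_mem g.2), hker, hm] at h
      norm_num at h
    · have h1 := congrArg f hm'
      rw [map_mul, map_mul, ← hab] at h1
      change f m * (g * x * (g : G)⁻¹) = g * x * (g : G)⁻¹ * f m at h1
      calc (g : G)⁻¹ * f m * g * x = (g : G)⁻¹ * (f m * (g * x * (g : G)⁻¹)) * g := by group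
        _ = _ := by rw [h1]; group
  · have h1 : c ∈ k.ker := hSK (hC.le fun s hs => (hc s (hSK hs)).symm)
    have h2 : e6 ⟨c, h1⟩ ∈ Subgroup.center (alternatingGroup (Fin 6)) := by
      rw [Subgroup.mem_center_iff]
      intro y
      obtain ⟨y, rfl⟩ := e6.surjective y
      rw [← map_mul, ← map_mul]
      exact congrArg e6 (Subtype.ext (hc y y.2).symm)
    rw [alternatingGroup.center_eq_bot (by simp), Subgroup.mem_bot, map_eq_one_iff _ e6.injective] at h2
    exact congrArg Subtype.val h2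

end Cfsg.Agent.S3333
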