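import Cfsg.Statements.S3339
import Cfsg.Agent.H7.Loc25

set_option autoImplicit false
open Cfsg

namespace Cfsg.Agent.S3339

open Subgroup CfsgH5 CfsgH6 CfsgFT CfsgH8 CfsgH9 CfsgH7 CfsgH7.W9

/-- A 3-local characterization of the alternating group of degree 9. Let G be a finite group and J ≤ G an elementary abelian subgroup of order 27 whose normalizer H = N_G(J) is isomorphic to the normalizer, in the alternating group of degree 9, of the subgroup generated by three disjoint 3-cycles. If O_{3'}(C_G(x)) = 1 for every element x of order 3 in H, then either G = H or G is isomorphic to the alternating group of degree 9. -/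
theorem result {G : Type*} [Group G] [Finite G]
    (J : Subgroup G) (hJcomm : IsMulCommutative J) (hJexp : ∀ a ∈ J, a ^ 3 = 1) (hJcard : Nat.card J = 27)
    (H : Subgroup G) (hH : H = Subgroup.normalizer (J : Set G))
    (J₀ : Subgroup (Equiv.Perm (Fin 9)))
    (hJ₀ : J₀ = Subgroup.closure {Equiv.swap (0 : Fin 9) 1 * Equiv.swap 1 2, Equiv.swap (3 : Fin 9) 4 * Equiv.swap 4 5, Equiv.swap (6 : Fin 9) 7 * Equiv.swap 7 8})
    (eH : H ≃* ↥(alternatingGroup (Fin 9) ⊓ Subgroup.normalizer (J₀ : Set (Equiv.Perm (Fin 9)))))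
    (hcores : ∀ x ∈ H, orderOf x = 3 → Cfsg.pPrimeCore 3 (Subgroup.centralizer ({x} : Set G)) = ⊥) :
    H = ⊤ ∨ Nonempty (G ≃* alternatingGroup (Fin 9)) := by
  subst hH
  have e0 : J₀ = J0.map toP := by
    rw [hJ₀, ← toP_a0, ← toP_a1, ← toP_a2]
    refine le_antisymm ((closure_le _).mpr ?_) ?_
    · rintro _ (rfl | rfl | rfl) <;> exact mem_map_of_mem _ (by decide)
    · rintro _ ⟨m, a, rfl⟩
      rw [eq_jv m a, jv_eq, map_mul, map_mul, map_pow, map_pow, map_pow]
      refine mul_mem (mul_mem ?_ ?_) ?_ <;> exact pow_mem (subset_closure (by simp)) _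
  rw [e0] at eH
  obtain ⟨f, h, hN⟩ := exists_PH eH (H0 := HE false)
    (fun m a => ⟨(sign_toP m).mpr a, mem_N_of_conj (by
      rintro _ ⟨j, b, rfl⟩
      exact ⟨_, J0_nrm m b, by simp⟩)⟩) fun π a => by
    obtain ⟨m, rfl⟩ := exists_of_nrm (π := π) fun m b => by
      obtain ⟨n, c, d⟩ := conj_mem_of_mem_N a.2 (mem_map_of_mem toP b)
      exact ⟨n, c, d.symm⟩
    exact ⟨m, (sign_toP m).mp a.1, rfl⟩
  have k : Fr (HE false) f J := ⟨h, (by decide +kernel : ∀ m ∈ S0, m ∈ HE false),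
    h.memJ (by decide +kernel : ∀ m ∈ J0, m ∈ HE false) (fun g hg => (hN g).mp (le_N J hg))
      (ab_iff.mpr fun x a y b => congrArg Subtype.val (hJcomm.is_comm.comm ⟨x, a⟩ ⟨y, b⟩)) hJexp hJcard,
    hN _⟩
  refine k.a9_main fun x a b => ?_
  have := hcores _ (k.mN (k.jle a)) (orderOf_three (k.ne (k.jle a) b) (k.exp _ (k.mJ a)))
  have e : (Opc 3 (C1 (f x))).subgroupOf (C1 (f x)) ≤ pPrimeCore 3 (C1 (f x)) :=
    le_sSup ⟨(nrm_Opc 3 _).normal_subgroupOf, by
      rw [Nat.card_congr (subgroupOfEquivOfLe (Opc_le 3 _)).toEquiv]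
      exact ((Nat.Prime.coprime_iff_not_dvd Nat.prime_three).2
        (CfsgFT.not_dvd_card_Opc Nat.prime_three _)).symm⟩
  exact eq_bot_iff.mpr fun g hg => congrArg Subtype.val
    (mem_bot.mp ((e.trans this.le) (show (⟨g, Opc_le 3 _ hg⟩ : C1 (f x)) ∈ _ from hg)))

end Cfsg.Agent.S3339
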