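import Cfsg.Statements.S3342
import Cfsg.Agent.H9.P43B1
import Cfsg.Agent.H9.P43B2

set_option autoImplicit false
open Cfsg

namespace Cfsg.Agent.S3342

section
open Subgroup CfsgH5 CfsgH6 CfsgFT CfsgH8 CfsgH9 CfsgH9.P43 Matrix

theorem sp_neg : ∀ P ∈ SP24, P *ᵥ ![1, 1, 1] ≠ -![1, 1, 1] := ball_of_all (by decide +kernel)

theorem real_act {G : Type*} [Group G] [Finite G] {d : LD G} (h : Loc d) {g : G}
    (hg : g * d.a * g⁻¹ = d.a⁻¹) : ∃ n ∈ N d.J, ∀ A, d.Act n A → A *ᵥ ![1, 1, 1] = -![1, 1, 1] := by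
  obtain ⟨n, hn, e⟩ := h.fusJ d.a_mem (hg ▸ inv_mem d.a_mem)
  refine ⟨n, hn, fun A hA => h.jv_inj ?_⟩
  rw [← hA, h.jv_neg, d.jv_a, e, hg]

end

open Subgroup CfsgH5 CfsgH6 CfsgFT CfsgH8 CfsgH9 CfsgH9.P43

/-- Let G be a finite group and a ∈ G an element of order 3 whose centralizer C has O₃(C) extraspecial of order 27 and exponent 3 with C/O₃(C) isomorphic to SL(2,3), and suppose some elementary abelian J ≤ C of order 27 normalizes no non-trivial subgroup of G of order prime to 3. If a is not conjugate to its inverse, then G has a normal subgroup of index 3 or G is isomorphic to PSp(4,3). If a is conjugate to its inverse, then ⟨a⟩ is normal in G, or G is isomorphic to the full automorphism group of PSp(4,3), or G is isomorphic to Sp(6,2). -/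
theorem result {G : Type*} [Group G] [Finite G]
    (a : G) (ha : orderOf a = 3) (C : Subgroup G) (hC : C = Subgroup.centralizer ({a} : Set G))
    (hR : Cfsg.IsExtraspecial 3 (Cfsg.pCore 3 C)) (hRcard : Nat.card (Cfsg.pCore 3 C) = 27)
    (hRexp : ∀ r ∈ Cfsg.pCore 3 C, r ^ 3 = 1)
    (e : C ⧸ Cfsg.pCore 3 C ≃* Matrix.SpecialLinearGroup (Fin 2) (ZMod 3))
    (J : Subgroup G) (hJC : J ≤ C) (hJcomm : IsMulCommutative J) (hJexp : ∀ j ∈ J, j ^ 3 = 1) (hJcard : Nat.card J = 27)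
    (hJsig : ∀ K : Subgroup G, (Nat.card K).Coprime 3 → (∀ j ∈ J, K.map (MulAut.conj j).toMonoidHom = K) → K = ⊥)
    (F : Type*) [Field F] [Fintype F] (hF : Fintype.card F = 3)
    (F₂ : Type*) [Field F₂] [Fintype F₂] (hF₂ : Fintype.card F₂ = 2) :
    ((∀ g : G, g * a * g⁻¹ ≠ a⁻¹) →
      (∃ N : Subgroup G, N.Normal ∧ N.index = 3) ∨ Nonempty (G ≃* Cfsg.PSp 2 F)) ∧
    ((∃ g : G, g * a * g⁻¹ = a⁻¹) →
      Subgroup.normalizer (Subgroup.zpowers a : Set G) = ⊤ ∨ Nonempty (G ≃* MulAut (Cfsg.PSp 2 F)) ∨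
        Nonempty (G ≃* Matrix.symplecticGroup (Fin 3) F₂)) := by
  subst hC
  haveI : Fact (Nat.Prime 3) := ⟨Nat.prime_three⟩
  have a1 : a ≠ 1 := fun e => by simp [e] at ha
  obtain ⟨hnc, hcl⟩ := es_facts hR hRcard
  obtain ⟨d, hd, -, hda⟩ := exists_loc a1 (Cfsg.pCore 3 (C1 a)) hnc hcl hRcard hRexp e hJC
    (ab_iff_isMulCommutative.2 hJcomm) hJexp hJcard
    (fun K h1 h2 => hJsig K ((Nat.Prime.coprime_iff_not_dvd Nat.prime_three).2 h1).symm
      fun j hj => h2.cj_eq hj)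
  have hza : zpowers a = zpowers d.a := by rcases hda with e | e <;> simp [e]
  have hre : ∀ g : G, g * a * g⁻¹ = a⁻¹ ↔ g * d.a * g⁻¹ = d.a⁻¹ := fun g => by
    rcases hda with e | e
    · rw [e]
    · rw [e, show g * d.a⁻¹ * g⁻¹ = (g * d.a * g⁻¹)⁻¹ by group, _root_.inv_inj]
  refine ⟨fun nr => ?_, fun ⟨g, hg⟩ => ?_⟩
  · replace nr : ∀ g : G, g * d.a * g⁻¹ ≠ d.a⁻¹ := fun g hg => nr g ((hre g).2 hg)
    rcases hd.cases with h1 | ⟨d', u, hu, e1, e2⟩
    · refine Or.inl (hd.index_three (fun g hg => ?_) nr)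
      obtain ⟨A, hA⟩ := hd.exists_act hg
      refine hd.mem_B_of_act hA (hd.jv_inj ?_)
      rw [← hA, d.jv_a]
      exact (hd.nx_of_B0 hA (h1 g A hA)).resolve_right (nr g)
    · exact Or.inr (hu.psp_top (fun r hr => nr r (e1 ▸ hu.inv_a hr)) F hF)
  · replace hg := (hre g).1 hg
    rcases hd.cases with h1 | ⟨d', u, hu, e1, e2⟩
    · obtain ⟨n, hn, h2⟩ := real_act hd hg
      obtain ⟨P, hP, h3 | h3⟩ := hd.actN h1 hn
      · exact absurd ((B0_fix P hP).symm.trans (h2 P h3)) (by decide)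
      obtain ⟨k, -, hk⟩ := hd.exists_B_act hP
      obtain ⟨A, h4, e⟩ := hd.act_inv hk
      have hr : d.Act (n * k⁻¹) (-1) := by simpa [mul_eq_one_comm.1 e] using h3.mul h4
      exact Or.inl (hza ▸ hd.K_eq_top h1 hr)
    · obtain ⟨n, hn, h2⟩ := real_act hu.toLoc (e1.symm ▸ hg)
      obtain ⟨P, hP, h3 | h3⟩ := hu.signed hn
      · exact absurd (h2 P h3) (sp_neg P hP)
      obtain ⟨r, hr⟩ := hu.exists_neg hP h3
      obtain ⟨s1, s2, s3, h⟩ := hu.exists_rs hr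
      rcases h.exists_b2 with hb | ⟨z1, z2, z3, hb⟩
      · exact Or.inr (Or.inl (h.aut_psp hb F hF))
      · exact Or.inr (Or.inr (hb.sp62 F₂ hF₂))

end Cfsg.Agent.S3342
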