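import Cfsg.Statements.S3343
import Cfsg.Agent.H7.Loc22

set_option autoImplicit false
open Cfsg

namespace Cfsg.Agent.S3343

open Subgroup CfsgH5 CfsgH6 CfsgFT CfsgH8 CfsgH9 CfsgH7 CfsgH7.W9

/-- Let G be a finite group with an element x of order 3 whose centralizer is isomorphic to the centralizer in the symmetric group of degree 9 of a product of three disjoint 3-cycles, and let J ≤ C_G(x) be elementary abelian of order 27 normalizing no non-trivial subgroup of G of order prime to 3. Then either J is normal in G or G is isomorphic to the symmetric group of degree 9. -/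
theorem result {G : Type*} [Group G] [Finite G]
    (x : G) (hx : orderOf x = 3)
    (eC : Subgroup.centralizer ({x} : Set G) ≃*
      Subgroup.centralizer ({Equiv.swap (0 : Fin 9) 1 * Equiv.swap 1 2 * Equiv.swap 3 4 * Equiv.swap 4 5 * Equiv.swap 6 7 * Equiv.swap 7 8} : Set (Equiv.Perm (Fin 9))))
    (J : Subgroup G) (hJC : J ≤ Subgroup.centralizer ({x} : Set G)) (hJcomm : IsMulCommutative J)
    (hJexp : ∀ j ∈ J, j ^ 3 = 1) (hJcard : Nat.card J = 27)
    (hJsig : ∀ K : Subgroup G, (Nat.card K).Coprime 3 → (∀ j ∈ J, K.map (MulAut.conj j).toMonoidHom = K) → K = ⊥) :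
    J.Normal ∨ Nonempty (G ≃* Equiv.Perm (Fin 9)) := by
  rw [← toP_c0] at eC
  obtain ⟨f, h, hC⟩ := exists_PH eC (H0 := HS3)
    (fun m a => mem_C1.mpr (rel_mul toP ((HS3_comm m).mp a))) fun π a => exists_of_comm (mem_C1.mp a)
  obtain ⟨m, a, e⟩ := (hC x).mp (mem_C1.mpr rfl)
  have k : ∀ n ∈ HS3, m * n = n * m := fun n b =>
    h.comm' a b (by rw [e]; exact (mem_C1.mp ((hC _).mpr ⟨n, b, rfl⟩)).symm)
  have hx1 : C1 (f c0) = C1 x := by
    rcases (by decide +kernel : ∀ m : W, m * σ0 = σ0 * m → m * r0 = r0 * m → m * a0 = a0 * m →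
      m ∈ HS3 → m = 1 ∨ m = c0 ∨ m = c0⁻¹) m (k _ (by decide)) (k _ (by decide)) (k _ (by decide)) a
      with rfl | rfl | rfl
    · rw [← e, h.one, orderOf_one] at hx; omega
    · rw [e]
    · rw [← e, h.inv (by decide), C1_inv]
  refine (s9_main h (hx1 ▸ hC) (h.memJ (by decide +kernel : ∀ m ∈ J0, m ∈ HS3)
    (fun g hg => (hC g).mp (hJC hg)) (ab_iff.mpr fun x a y b =>
      congrArg Subtype.val (hJcomm.is_comm.comm ⟨x, a⟩ ⟨y, b⟩)) hJexp hJcard)
    (fun K h1 h2 => hJsig K ((Nat.Prime.coprime_iff_not_dvd Nat.prime_three).2 h1).symm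
      fun j hj => h2.cj_eq hj)).imp_left fun e => normalizer_eq_top_iff.mp e

end Cfsg.Agent.S3343
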