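import Cfsg.Statements.S3344
import Cfsg.Agent.H3.X32U
import Cfsg.Agent.H3.X32M3
import Cfsg.Agent.H3.X32A3

set_option autoImplicit false
open Cfsg

namespace Cfsg.Agent.S3344

/-- Let G be a finite group with an involution s, L = C_G(s) and Q = O₂(L). Suppose Q is extraspecial of order 32, L/Q is isomorphic to Sym(3), C_Q(X) = ⟨s⟩ for a Sylow 3-subgroup X of L, and s is not weakly closed in Q with respect to G (some conjugate of s other than s lies in Q). Then either G has an elementary abelian normal subgroup of order 8 with quotient isomorphic to PSL(3,2), or G is isomorphic to the alternating group of degree 8 or 9, or to the Mathieu group M₁₂. -/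
theorem result {G : Type*} [Group G] [Finite G]
    (s : G) (hs : orderOf s = 2) (L : Subgroup G) (hL : L = Subgroup.centralizer ({s} : Set G))
    (Q : Subgroup G) (hQ : Q = (Cfsg.pCore 2 L).map L.subtype)
    (hQex : Cfsg.IsExtraspecial 2 Q) (hQcard : Nat.card Q = 32)
    (e : L ⧸ Cfsg.pCore 2 L ≃* Equiv.Perm (Fin 3))
    (X : Sylow 3 L) (hCQX : Q ⊓ Subgroup.centralizer (((X : Subgroup L).map L.subtype : Subgroup G) : Set G) = Subgroup.zpowers s)
    (hnwc : ∃ g : G, g * s * g⁻¹ ∈ Q ∧ g * s * g⁻¹ ≠ s) :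
    (∃ (N : Subgroup G) (hN : N.Normal), IsMulCommutative N ∧ (∀ n ∈ N, n ^ 2 = 1) ∧ Nat.card N = 8 ∧
        Nonempty (G ⧸ N ≃* Matrix.ProjectiveSpecialLinearGroup (Fin 3) (ZMod 2))) ∨
    Nonempty (G ≃* alternatingGroup (Fin 8)) ∨ Nonempty (G ≃* alternatingGroup (Fin 9)) ∨ Cfsg.Spor.IsoM12 G := by
  subst hL
  obtain ⟨ph, h0⟩ := CfsgH3.X32.exists_h0 hs hQ hQex hQcard e X hCQX
  obtain ⟨g, hg, hg'⟩ := hnwc
  obtain ⟨τ, f, hf, hc⟩ := h0.exists_base hg hg'
  by_cases hu : ∀ m, IsConj (f CfsgH3.X32.s) (f m) → CfsgH3.X32.pE m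
  · exact Or.inl (CfsgH3.X32.CU.main ⟨hf, hc, hu⟩)
  push Not at hu
  obtain ⟨m, h1, h2⟩ := hu
  cases τ
  · obtain ⟨f, a, b, h⟩ := CfsgH3.X32.exists_ca hf hc h2 h1
    exact Or.inr (h.main.imp_right Or.inl)
  · refine Or.inr (Or.inr (Or.inr (CfsgH3.X32.CM.iso ⟨hf, hc, ?_⟩)))
    obtain ⟨k, hk⟩ := isConj_iff.1 h1
    rcases CfsgH3.X32.fM1 m (hf.sq (hk ▸ CfsgH5.conj_mul_self CfsgH3.X32.Base.s2 k)) with
      rfl | e | rfl | ⟨l, rfl | rfl⟩
    · exact absurd (by decide +kernel) h2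
    · exact absurd h1 (hf.nz e)
    · exact absurd (by decide +kernel) h2
    · exact absurd ((CfsgH3.X32.fE true _ (by decide +kernel)).2.2.1 l) h2
    · exact h1.trans (isConj_iff.2 ⟨f l, by simp⟩).symm

end Cfsg.Agent.S3344
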