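import Cfsg.Statements.S3348
import Cfsg.Agent.H8.AmLoc

set_option autoImplicit false
open Cfsg

namespace Cfsg.Agent.S3348

open Subgroup CfsgH8 CfsgH5 CfsgH6 in
theorem aff {G : Type*} [Group G] [Finite G] (A : Subgroup G)
    (eA : A ⧸ Cfsg.pCore 3 A ≃* GL (Fin 2) (ZMod 3))
    (hOA : IsMulCommutative (Cfsg.pCore 3 A) ∧ (∀ x ∈ Cfsg.pCore 3 A, x ^ 3 = 1) ∧
      Nat.card (Cfsg.pCore 3 A) = 9 ∧
      Subgroup.centralizer ((Cfsg.pCore 3 A : Subgroup A) : Set A) = Cfsg.pCore 3 A) :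
    Aff A ((Cfsg.pCore 3 A).map A.subtype) := by
  obtain ⟨h1, h2, h3, h4⟩ := hOA
  refine ⟨map_subtype_le _, by rw [card_map_of_injective A.subtype_injective, h3], ?_, ?_,
    Nrm.map_subtype _, fun g hg h => ⟨⟨g, hg⟩, h4.le (mem_centralizer_iff.2 fun v hv =>
      Subtype.ext (h v ⟨v, hv, rfl⟩).symm), rfl⟩, ?_⟩
  · rintro _ ⟨v, hv, rfl⟩
    exact congrArg Subtype.val (h2 v hv)
  · rintro _ ⟨v, hv, rfl⟩ _ ⟨w, hw, rfl⟩
    exact congrArg Subtype.val (mem_centralizer_iff.1 (h4.ge hw) v hv)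
  · have h5 := (Cfsg.pCore 3 A).card_mul_index
    haveI : Fact (Nat.Prime 3) := ⟨Nat.prime_three⟩
    rw [h3, show (Cfsg.pCore 3 A).index = Nat.card (GL (Fin 2) (ZMod 3)) from
      Nat.card_congr eA.toEquiv, Matrix.card_GL_field] at h5
    rw [← h5]
    simp [Fin.prod_univ_two]


/-- Let G be a finite group generated by isomorphic subgroups A and B such that C = A ∩ B contains a Sylow 3-subgroup of each of A and B and no non-trivial subgroup of C is normalized by both A and B. Suppose A/O₃(A) and B/O₃(B) are isomorphic to GL(2,3), that O₃(A) and O₃(B) are elementary abelian of order 9 and self-centralizing in A and B respectively (natural modules), and that for a Sylow 3-subgroup S of C the normalizer N_G(Z(S)) lies in A ∩ B. Then G is isomorphic to the Mathieu group M₁₂ or to PSL(3,3). -/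
theorem result {G : Type*} [Group G] [Finite G]
    (A B : Subgroup G) (eAB : Nonempty (A ≃* B)) (hgen : A ⊔ B = ⊤)
    (hSylA : ¬ 3 ∣ ((A ⊓ B).subgroupOf A).index) (hSylB : ¬ 3 ∣ ((A ⊓ B).subgroupOf B).index)
    (hcore : ∀ N : Subgroup G, N ≤ A ⊓ B → (∀ a ∈ A, N.map (MulAut.conj a).toMonoidHom = N) →
      (∀ b ∈ B, N.map (MulAut.conj b).toMonoidHom = N) → N = ⊥)
    (eA : A ⧸ Cfsg.pCore 3 A ≃* GL (Fin 2) (ZMod 3)) (eB : B ⧸ Cfsg.pCore 3 B ≃* GL (Fin 2) (ZMod 3))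
    (hOA : IsMulCommutative (Cfsg.pCore 3 A) ∧ (∀ x ∈ Cfsg.pCore 3 A, x ^ 3 = 1) ∧ Nat.card (Cfsg.pCore 3 A) = 9 ∧
      Subgroup.centralizer ((Cfsg.pCore 3 A : Subgroup A) : Set A) = Cfsg.pCore 3 A)
    (hOB : IsMulCommutative (Cfsg.pCore 3 B) ∧ (∀ x ∈ Cfsg.pCore 3 B, x ^ 3 = 1) ∧ Nat.card (Cfsg.pCore 3 B) = 9 ∧
      Subgroup.centralizer ((Cfsg.pCore 3 B : Subgroup B) : Set B) = Cfsg.pCore 3 B)
    (S : Sylow 3 ↥(A ⊓ B)) (Z : Subgroup G)
    (hZ : Z = ((S : Subgroup ↥(A ⊓ B)) ⊓ Subgroup.centralizer ((S : Subgroup ↥(A ⊓ B)) : Set ↥(A ⊓ B))).map (A ⊓ B).subtype)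
    (hNZ : Subgroup.normalizer (Z : Set G) ≤ A ⊓ B) :
    Cfsg.Spor.IsoM12 G ∨ Nonempty (G ≃* Matrix.ProjectiveSpecialLinearGroup (Fin 3) (ZMod 3)) := by
  open Subgroup CfsgH8 CfsgH5 CfsgH6 in
  haveI : Fact (Nat.Prime 3) := ⟨Nat.prime_three⟩
  have hA := aff A eA hOA
  have hB := aff B eB hOB
  generalize (Cfsg.pCore 3 A).map A.subtype = V at hA
  generalize (Cfsg.pCore 3 B).map B.subtype = W at hB
  obtain ⟨T, hT⟩ : ∃ T, T = (S : Subgroup ↥(A ⊓ B)).map (A ⊓ B).subtype := ⟨_, rfl⟩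
  have hT1 : T ≤ A ⊓ B := hT ▸ map_subtype_le _
  have hT2 : IsPGroup 3 T := hT ▸ S.2.map _
  have hT3 : ¬ 3 ∣ T.relIndex (A ⊓ B) := by
    rw [hT, relIndex, subgroupOf, comap_map_eq_self_of_injective (A ⊓ B).subtype_injective]
    exact S.not_dvd_index
  have key : ∀ {A' V' : Subgroup G}, Aff A' V' → A ⊓ B ≤ A' → ¬ 3 ∣ (A ⊓ B).relIndex A' →
      V' ≤ T := fun {A' V'} h h1 h2 =>
    (sylIn_of_not_dvd (hT1.trans h1) hT2 (by
      rw [← relIndex_mul_relIndex T _ A' hT1 h1, Nat.prime_three.dvd_mul]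
      exact fun e => e.elim hT3 h2)).le_of_nrm h.le (IsPGroup.of_card (n := 2) h.card)
      fun g hg => h.nrm g (h1 (hT1 hg))
  have hV := key hA inf_le_left hSylA
  have hW := key hB inf_le_right hSylB
  have hZ' : ∀ z, z ∈ Z ↔ z ∈ T ∧ ∀ t ∈ T, t * z = z * t := fun z => by
    rw [hZ, hT]
    constructor
    · rintro ⟨y, ⟨h1, h2⟩, rfl⟩
      refine ⟨⟨y, h1, rfl⟩, ?_⟩
      rintro _ ⟨t, ht, rfl⟩
      exact congrArg Subtype.val (mem_centralizer_iff.1 h2 t ht)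
    · rintro ⟨⟨y, h1, rfl⟩, h2⟩
      exact ⟨y, ⟨h1, mem_centralizer_iff.2 fun t ht => Subtype.ext (h2 t ⟨t, ht, rfl⟩)⟩, rfl⟩
  have hne : V ≠ W := fun e => by
    have h1 := hcore V (hV.trans hT1) (fun a ha => Nrm.cj_eq hA.nrm ha)
      (fun a ha => e ▸ Nrm.cj_eq hB.nrm ha)
    have h2 := hA.card
    rw [h1, card_bot] at h2
    omega
  have hZV : Z ≤ V ⊓ W := fun z hz => by
    obtain ⟨h1, h2⟩ := (hZ' z).1 hz
    exact ⟨hA.cent z (hT1 h1).1 fun v hv => (h2 v (hV hv)).symm,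
      hB.cent z (hT1 h1).2 fun v hv => (h2 v (hW hv)).symm⟩
  haveI : Nontrivial T := Finite.one_lt_card_iff_nontrivial.1
    (lt_of_lt_of_le (by rw [hA.card]; norm_num) (card_le_of_le hV))
  haveI := hT2.center_nontrivial
  obtain ⟨z, hz⟩ := exists_ne (1 : center T)
  have hz1 : (z.1.1 : G) ≠ 1 := fun e => hz (Subtype.ext (Subtype.ext e))
  have hz2 : z.1.1 ∈ Z := (hZ' _).2 ⟨z.1.2, fun t ht =>
    congrArg Subtype.val (mem_center_iff.mp z.2 ⟨t, ht⟩)⟩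
  obtain ⟨-, h4⟩ := eq_zpowers_of_lt_nine hA.card (hZV.trans inf_le_left)
    (fun e => hne (eq_of_le_of_card_ge (e ▸ hZV.trans inf_le_right) (by rw [hA.card, hB.card])))
    hz2 hz1
  have h := Am.Amal.core ⟨hA, hB, hV.trans (hT1.trans inf_le_right),
    hW.trans (hT1.trans inf_le_left), hne, (hZV hz2).1, (hZV hz2).2, hz1, fun g hg =>
      hNZ (mem_normalizer_of_conj_mem fun y hy => by
        rw [h4] at hy ⊢
        obtain ⟨k, rfl⟩ := mem_zpowers_iff.1 hy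
        rw [← conj_zpow]
        rcases hg with e | e <;> rw [e]
        · exact zpow_mem (mem_zpowers _) k
        · exact zpow_mem (inv_mem (mem_zpowers _)) k)⟩
  rw [hgen] at h
  exact h.imp (fun ⟨e⟩ => ⟨topEquiv.symm.trans e⟩) fun ⟨e⟩ => ⟨topEquiv.symm.trans e⟩

end Cfsg.Agent.S3348
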