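import Cfsg.Statements.S3362
import Cfsg.Agent.H9.ChainExact

set_option autoImplicit false
set_option maxRecDepth 100000
open Cfsg

namespace CfsgH9.M12P

noncomputable def MM : Model (Equiv.Perm (Fin 12)) :=
  permModel 12 4 15 205163983024656 (by norm_num) (by norm_num) (by decide +kernel)

def g0 : Equiv.Perm (Fin 12) := Equiv.swap (3 : Fin 12) 5 * Equiv.swap (3 : Fin 12) 4 * Equiv.swap (6 : Fin 12) 8 * Equiv.swap (6 : Fin 12) 7 * Equiv.swap (9 : Fin 12) 11 * Equiv.swap (9 : Fin 12) 10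

theorem enc_g0 : MM.enc g0 = 171139535290896 := by decide +kernel

def g1 : Equiv.Perm (Fin 12) := Equiv.swap (3 : Fin 12) 9 * Equiv.swap (3 : Fin 12) 6 * Equiv.swap (4 : Fin 12) 10 * Equiv.swap (4 : Fin 12) 7 * Equiv.swap (5 : Fin 12) 11 * Equiv.swap (5 : Fin 12) 8

theorem enc_g1 : MM.enc g1 = 92615224025616 := by decide +kernel

def g2 : Equiv.Perm (Fin 12) := Equiv.swap (4 : Fin 12) 9 * Equiv.swap (4 : Fin 12) 5 * Equiv.swap (4 : Fin 12) 6 * Equiv.swap (7 : Fin 12) 10 * Equiv.swap (7 : Fin 12) 11 * Equiv.swap (7 : Fin 12) 8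

theorem enc_g2 : MM.enc g2 = 183942805598736 := by decide +kernel

def g3 : Equiv.Perm (Fin 12) := Equiv.swap (4 : Fin 12) 11 * Equiv.swap (4 : Fin 12) 5 * Equiv.swap (4 : Fin 12) 7 * Equiv.swap (6 : Fin 12) 8 * Equiv.swap (6 : Fin 12) 9 * Equiv.swap (6 : Fin 12) 10

theorem enc_g3 : MM.enc g3 = 80841396400656 := by decide +kernel

def g4 : Equiv.Perm (Fin 12) := Equiv.swap (4 : Fin 12) 8 * Equiv.swap (4 : Fin 12) 5 * Equiv.swap (4 : Fin 12) 10 * Equiv.swap (6 : Fin 12) 7 * Equiv.swap (6 : Fin 12) 9 * Equiv.swap (6 : Fin 12) 11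

theorem enc_g4 : MM.enc g4 = 164327252963856 := by decide +kernel

def g5 : Equiv.Perm (Fin 12) := Equiv.swap (0 : Fin 12) 3 * Equiv.swap (6 : Fin 12) 7 * Equiv.swap (8 : Fin 12) 10 * Equiv.swap (9 : Fin 12) 11

theorem enc_g5 : MM.enc g5 = 167926364897811 := by decide +kernel

def g6 : Equiv.Perm (Fin 12) := Equiv.swap (0 : Fin 12) 1 * Equiv.swap (6 : Fin 12) 9 * Equiv.swap (7 : Fin 12) 10 * Equiv.swap (8 : Fin 12) 11

theorem enc_g6 : MM.enc g6 = 148896472117761 := by decide +kernel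

def g7 : Equiv.Perm (Fin 12) := Equiv.swap (1 : Fin 12) 2 * Equiv.swap (6 : Fin 12) 11 * Equiv.swap (7 : Fin 12) 9 * Equiv.swap (8 : Fin 12) 10

theorem enc_g7 : MM.enc g7 = 114875801284896 := by decide +kernel

noncomputable def c_s0 : NT := (.node (.node (.node (.leaf (nat_lit 171139535290896)) (.leaf (nat_lit 164327252963856))) (.node (.leaf (nat_lit 183942805598736)) (.leaf (nat_lit 148896472117761)))) (.node (.node (.leaf (nat_lit 92615224025616)) (.leaf (nat_lit 167926364897811))) (.node (.leaf (nat_lit 80841396400656)) (.leaf (nat_lit 114875801284896)))))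

noncomputable def c_t0 : NT := (.node (.node (.node (.node (.leaf (nat_lit 205163983024656)) (.leaf (nat_lit 129425772907041))) (.leaf (nat_lit 169769507816481))) (.node (.node (.leaf (nat_lit 171143312191521)) (.leaf (nat_lit 144686077840161))) (.leaf (nat_lit 188533650425121)))) (.node (.node (.node (.leaf (nat_lit 114875801284896)) (.leaf (nat_lit 147692243781921))) (.leaf (nat_lit 92056794367521))) (.node (.node (.leaf (nat_lit 203987229082401)) (.leaf (nat_lit 76603215710241))) (.leaf (nat_lit 57839073101601)))))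

noncomputable def c_P0 : NT := (.node (.node (.node (.node (.leaf (nat_lit 0)) (.leaf (nat_lit 36))) (.leaf (nat_lit 24))) (.node (.node (.leaf (nat_lit 14)) (.leaf (nat_lit 44))) (.leaf (nat_lit 32)))) (.node (.node (.node (.leaf (nat_lit 7)) (.leaf (nat_lit 41))) (.leaf (nat_lit 25))) (.node (.node (.leaf (nat_lit 21)) (.leaf (nat_lit 49))) (.leaf (nat_lit 33)))))

noncomputable def c_H0 : NT := (.node (.node (.node (.node (.node (.node (.node (.leaf (nat_lit 1320)) (.leaf (nat_lit 10))) (.leaf (nat_lit 6))) (.node (.node (.leaf (nat_lit 1322)) (.leaf (nat_lit 11889))) (.leaf (nat_lit 3)))) (.node (.node (.node (.leaf (nat_lit 1321)) (.leaf (nat_lit 71288))) (.leaf (nat_lit 7))) (.node (.node (.leaf (nat_lit 4)) (.leaf (nat_lit 5))) (.leaf (nat_lit 11))))) (.node (.node (.node (.node (.leaf (nat_lit 47520)) (.leaf (nat_lit 35646))) (.leaf (nat_lit 8))) (.node (.node (.leaf (nat_lit 71282)) (.leaf (nat_lit 35649))) (.leaf (nat_lit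 11891)))) (.node (.node (.node (.leaf (nat_lit 59401)) (.leaf (nat_lit 11887))) (.leaf (nat_lit 10))) (.node (.node (.leaf (nat_lit 11883)) (.leaf (nat_lit 11884))) (.leaf (nat_lit 11885)))))) (.node (.node (.node (.node (.node (.leaf (nat_lit 11880)) (.leaf (nat_lit 23767))) (.leaf (nat_lit 59405))) (.node (.node (.leaf (nat_lit 23762)) (.leaf (nat_lit 47528))) (.leaf (nat_lit 59409)))) (.node (.node (.node (.leaf (nat_lit 83161)) (.leaf (nat_lit 59404))) (.leaf (nat_lit 59406))) (.node (.node (.leaf (nat_lit 59403)) (.leaf (nat_lit 23770))) (.leaf (nat_lit 59411))))) (.node (.node (.node (.node (.leaf (nat_lit 12)) (.leaf (nat_lit 12019))) (.leaf (nat_lit 136))) (.node (.node (.leaf (nat_lit 1)) (.leaf (nat_lit 12023))) (.leaf (nat_lit 138)))) (.node (.node (.node (.leaf (nat_lit 2)) (.leaf (nat_lit 137))) (.leaf (nat_lit 141))) (.node (.node (.leaf (nat_lit 135)) (.leaf (nat_lit 83302))) (.leaf (nat_lit 83300))))))) (.node (.node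 (.node (.node (.node (.node (.leaf (nat_lit 2640)) (.leaf (nat_lit 11884))) (.leaf (nat_lit 7))) (.node (.node (.leaf (nat_lit 5282)) (.leaf (nat_lit 11886))) (.leaf (nat_lit 11)))) (.node (.node (.node (.leaf (nat_lit 68641)) (.leaf (nat_lit 3))) (.leaf (nat_lit 9))) (.node (.node (.leaf (nat_lit 5)) (.leaf (nat_lit 71290))) (.leaf (nat_lit 71288))))) (.node (.node (.node (.node (.leaf (nat_lit 132)) (.leaf (nat_lit 14531))) (.leaf (nat_lit 39604))) (.node (.node (.leaf (nat_lit 3)) (.leaf (nat_lit 10569))) (.leaf (nat_lit 36966)))) (.node (.node (.node (.leaf (nat_lit 133)) (.leaf (nat_lit 66010))) (.leaf (nat_lit 33007))) (.node (.node (.leaf (nat_lit 2)) (.leaf (nat_lit 75248))) (.leaf (nat_lit 89765)))))) (.node (.node (.node (.node (.node (.leaf (nat_lit 23760)) (.leaf (nat_lit 47529))) (.leaf (nat_lit 23767))) (.node (.node (.leaf (nat_lit 59402)) (.leaf (nat_lit 47524))) (.leaf (nat_lit 47530)))) (.node (.node (.node (.leaf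 (nat_lit 71281)) (.leaf (nat_lit 23771))) (.leaf (nat_lit 47528))) (.node (.node (.leaf (nat_lit 23763)) (.leaf (nat_lit 23765))) (.leaf (nat_lit 23766))))) (.node (.node (.node (.node (.leaf (nat_lit 1)) (.leaf (nat_lit 11903))) (.leaf (nat_lit 16))) (.node (.node (.leaf (nat_lit 14)) (.leaf (nat_lit 11897))) (.leaf (nat_lit 18)))) (.node (.node (.node (.leaf (nat_lit 0)) (.leaf (nat_lit 19))) (.leaf (nat_lit 11902))) (.node (.node (.leaf (nat_lit 15)) (.leaf (nat_lit 11900))) (.leaf (nat_lit 21))))))))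

noncomputable def c_s1 : NT := (.node (.node (.node (.leaf (nat_lit 171139535290896)) (.leaf (nat_lit 164327252963856))) (.node (.leaf (nat_lit 183942805598736)) (.leaf (nat_lit 148896472117761)))) (.node (.node (.leaf (nat_lit 92615224025616)) (.leaf (nat_lit 167926364897811))) (.leaf (nat_lit 80841396400656))))

noncomputable def c_t1 : NT := (.node (.node (.node (.node (.leaf (nat_lit 205163983024656)) (.leaf (nat_lit 126745973490321))) (.leaf (nat_lit 80967474020961))) (.node (.node (.leaf (nat_lit 183040958792241)) (.leaf (nat_lit 65513895363201))) (.leaf (nat_lit 99731613680241)))) (.node (.node (.node (.leaf (nat_lit 148896472117761)) (.leaf (nat_lit 183977478849201))) (.leaf (nat_lit 167587380134481))) (.node (.leaf (nat_lit 201805098451521)) (.leaf (nat_lit 165226170811041)))))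

noncomputable def c_P1 : NT := (.node (.node (.node (.node (.leaf (nat_lit 0)) (.leaf (nat_lit 29))) (.leaf (nat_lit 15))) (.node (.node (.leaf (nat_lit 12)) (.leaf (nat_lit 36))) (.leaf (nat_lit 22)))) (.node (.node (.node (.leaf (nat_lit 6)) (.leaf (nat_lit 32))) (.leaf (nat_lit 21))) (.node (.leaf (nat_lit 14)) (.leaf (nat_lit 25)))))

noncomputable def c_H1 : NT := (.node (.node (.node (.node (.node (.node (.node (.leaf (nat_lit 110)) (.leaf (nat_lit 6935))) (.leaf (nat_lit 9))) (.node (.leaf (nat_lit 3962)) (.leaf (nat_lit 1008)))) (.node (.node (.node (.leaf (nat_lit 661)) (.leaf (nat_lit 5949))) (.leaf (nat_lit 3085))) (.node (.leaf (nat_lit 5946)) (.leaf (nat_lit 1987))))) (.node (.node (.node (.node (.leaf (nat_lit 3960)) (.leaf (nat_lit 5508))) (.leaf (nat_lit 10))) (.node (.leaf (nat_lit 13)) (.leaf (nat_lit 4958)))) (.node (.node (.node (.leaf (nat_lit 2)) (.leaf (nat_lit 1010))) (.leaf (nat_lit 3970))) (.node (.leaf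 (nat_lit 6)) (.leaf (nat_lit 6936)))))) (.node (.node (.node (.node (.node (.leaf (nat_lit 990)) (.leaf (nat_lit 4953))) (.leaf (nat_lit 19))) (.node (.leaf (nat_lit 6932)) (.leaf (nat_lit 6933)))) (.node (.node (.node (.leaf (nat_lit 3961)) (.leaf (nat_lit 6933))) (.leaf (nat_lit 10))) (.node (.leaf (nat_lit 3303)) (.leaf (nat_lit 3963))))) (.node (.node (.node (.node (.leaf (nat_lit 1)) (.leaf (nat_lit 4))) (.leaf (nat_lit 4959))) (.node (.leaf (nat_lit 6)) (.leaf (nat_lit 1770)))) (.node (.node (.leaf (nat_lit 3)) (.leaf (nat_lit 6934))) (.node (.leaf (nat_lit 3965)) (.leaf (nat_lit 15))))))) (.node (.node (.node (.node (.node (.node (.leaf (nat_lit 220)) (.leaf (nat_lit 4957))) (.leaf (nat_lit 7156))) (.node (.leaf (nat_lit 5942)) (.leaf (nat_lit 9)))) (.node (.node (.node (.leaf (nat_lit 5941)) (.leaf (nat_lit 5944))) (.leaf (nat_lit 16))) (.node (.leaf (nat_lit 7)) (.leaf (nat_lit 2))))) (.node (.node (.node (.node (.leaf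 (nat_lit 11)) (.leaf (nat_lit 6951))) (.leaf (nat_lit 3968))) (.node (.leaf (nat_lit 5)) (.leaf (nat_lit 2975)))) (.node (.node (.leaf (nat_lit 0)) (.leaf (nat_lit 5945))) (.node (.leaf (nat_lit 8)) (.leaf (nat_lit 889)))))) (.node (.node (.node (.node (.node (.leaf (nat_lit 1980)) (.leaf (nat_lit 2978))) (.leaf (nat_lit 2))) (.node (.leaf (nat_lit 1)) (.leaf (nat_lit 5946)))) (.node (.node (.node (.leaf (nat_lit 1981)) (.leaf (nat_lit 2317))) (.leaf (nat_lit 1987))) (.node (.leaf (nat_lit 14)) (.leaf (nat_lit 5950))))) (.node (.node (.node (.node (.leaf (nat_lit 111)) (.leaf (nat_lit 1989))) (.leaf (nat_lit 6940))) (.node (.leaf (nat_lit 3964)) (.leaf (nat_lit 6947)))) (.node (.node (.leaf (nat_lit 4)) (.leaf (nat_lit 2864))) (.node (.leaf (nat_lit 4957)) (.leaf (nat_lit 6938))))))))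

noncomputable def c_s2 : NT := (.node (.node (.node (.leaf (nat_lit 171139535290896)) (.leaf (nat_lit 164327252963856))) (.leaf (nat_lit 183942805598736))) (.node (.node (.leaf (nat_lit 92615224025616)) (.leaf (nat_lit 167926364897811))) (.leaf (nat_lit 80841396400656))))

noncomputable def c_t2 : NT := (.node (.node (.node (.node (.leaf (nat_lit 205163983024656)) (.leaf (nat_lit 63266835792411))) (.leaf (nat_lit 201938729894421))) (.node (.leaf (nat_lit 183186666881556)) (.leaf (nat_lit 100576930562586)))) (.node (.node (.node (.leaf (nat_lit 167926364897811)) (.leaf (nat_lit 99246920827416))) (.leaf (nat_lit 80494857814551))) (.node (.leaf (nat_lit 65234555830806)) (.leaf (nat_lit 111631379595801)))))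

noncomputable def c_P2 : NT := (.node (.node (.node (.node (.leaf (nat_lit 0)) (.leaf (nat_lit 22))) (.leaf (nat_lit 12))) (.node (.leaf (nat_lit 6)) (.leaf (nat_lit 16)))) (.node (.node (.node (.leaf (nat_lit 5)) (.leaf (nat_lit 25))) (.leaf (nat_lit 13))) (.node (.leaf (nat_lit 7)) (.leaf (nat_lit 19)))))

noncomputable def c_H2 : NT := (.node (.node (.node (.node (.node (.node (.leaf (nat_lit 10)) (.leaf (nat_lit 189))) (.node (.leaf (nat_lit 6)) (.leaf (nat_lit 457)))) (.node (.node (.leaf (nat_lit 181)) (.leaf (nat_lit 274))) (.node (.leaf (nat_lit 1)) (.leaf (nat_lit 98))))) (.node (.node (.node (.leaf (nat_lit 360)) (.leaf (nat_lit 8))) (.node (.leaf (nat_lit 184)) (.leaf (nat_lit 277)))) (.node (.node (.leaf (nat_lit 4)) (.leaf (nat_lit 182))) (.leaf (nat_lit 459))))) (.node (.node (.node (.node (.leaf (nat_lit 90)) (.leaf (nat_lit 453))) (.node (.leaf (nat_lit 5)) (.leaf (nat_lit 636)))) (.node (.node (.leaf (nat_lit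 451)) (.leaf (nat_lit 366))) (.node (.leaf (nat_lit 187)) (.leaf (nat_lit 452))))) (.node (.node (.node (.leaf (nat_lit 2)) (.leaf (nat_lit 95))) (.node (.leaf (nat_lit 8)) (.leaf (nat_lit 3)))) (.node (.node (.leaf (nat_lit 183)) (.leaf (nat_lit 455))) (.leaf (nat_lit 9)))))) (.node (.node (.node (.node (.node (.leaf (nat_lit 20)) (.leaf (nat_lit 94))) (.node (.leaf (nat_lit 302)) (.leaf (nat_lit 454)))) (.node (.node (.leaf (nat_lit 91)) (.leaf (nat_lit 539))) (.node (.leaf (nat_lit 9)) (.leaf (nat_lit 93))))) (.node (.node (.node (.leaf (nat_lit 1)) (.leaf (nat_lit 452))) (.node (.leaf (nat_lit 636)) (.leaf (nat_lit 47)))) (.node (.node (.leaf (nat_lit 5)) (.leaf (nat_lit 99))) (.leaf (nat_lit 284))))) (.node (.node (.node (.node (.leaf (nat_lit 180)) (.leaf (nat_lit 73))) (.node (.leaf (nat_lit 7)) (.leaf (nat_lit 632)))) (.node (.node (.leaf (nat_lit 0)) (.leaf (nat_lit 1))) (.node (.leaf (nat_lit 638)) (.leaf (nat_lit 396)))))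 (.node (.node (.node (.leaf (nat_lit 3)) (.leaf (nat_lit 637))) (.node (.leaf (nat_lit 515)) (.leaf (nat_lit 368)))) (.node (.node (.leaf (nat_lit 95)) (.leaf (nat_lit 528))) (.leaf (nat_lit 366)))))))

noncomputable def c_s3 : NT := (.node (.node (.node (.leaf (nat_lit 171139535290896)) (.leaf (nat_lit 164327252963856))) (.leaf (nat_lit 183942805598736))) (.node (.leaf (nat_lit 92615224025616)) (.leaf (nat_lit 80841396400656))))

noncomputable def c_t3 : NT := (.node (.node (.node (.node (.leaf (nat_lit 205163983024656)) (.leaf (nat_lit 74056434352656))) (.leaf (nat_lit 58590776291856))) (.node (.leaf (nat_lit 92615224025616)) (.leaf (nat_lit 148868997747216)))) (.node (.node (.leaf (nat_lit 171139535290896)) (.leaf (nat_lit 133432927101456))) (.node (.leaf (nat_lit 186605193351696)) (.leaf (nat_lit 151978882019856)))))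

noncomputable def c_P3 : NT := (.node (.node (.node (.node (.leaf (nat_lit 0)) (.leaf (nat_lit 16))) (.leaf (nat_lit 6))) (.node (.leaf (nat_lit 1)) (.leaf (nat_lit 11)))) (.node (.node (.leaf (nat_lit 0)) (.leaf (nat_lit 9))) (.node (.leaf (nat_lit 5)) (.leaf (nat_lit 14)))))

noncomputable def c_H3 : NT := (.node (.node (.node (.node (.node (.node (.leaf (nat_lit 1)) (.leaf (nat_lit 10))) (.leaf (nat_lit 8))) (.node (.node (.leaf (nat_lit 22)) (.leaf (nat_lit 2))) (.leaf (nat_lit 38)))) (.node (.node (.node (.leaf (nat_lit 36)) (.leaf (nat_lit 39))) (.leaf (nat_lit 8))) (.node (.node (.leaf (nat_lit 12)) (.leaf (nat_lit 37))) (.leaf (nat_lit 60))))) (.node (.node (.node (.node (.leaf (nat_lit 9)) (.leaf (nat_lit 40))) (.leaf (nat_lit 61))) (.node (.node (.leaf (nat_lit 4)) (.leaf (nat_lit 25))) (.leaf (nat_lit 37)))) (.node (.node (.node (.leaf (nat_lit 4)) (.leaf (nat_lit 55))) (.leaf (nat_lit 17))) (.node (.leaf (nat_lit 7))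 (.leaf (nat_lit 50)))))) (.node (.node (.node (.node (.node (.leaf (nat_lit 2)) (.leaf (nat_lit 26))) (.leaf (nat_lit 15))) (.node (.node (.leaf (nat_lit 5)) (.leaf (nat_lit 52))) (.leaf (nat_lit 7)))) (.node (.node (.node (.leaf (nat_lit 3)) (.leaf (nat_lit 59))) (.leaf (nat_lit 50))) (.node (.leaf (nat_lit 59)) (.leaf (nat_lit 30))))) (.node (.node (.node (.node (.leaf (nat_lit 18)) (.leaf (nat_lit 42))) (.leaf (nat_lit 44))) (.node (.node (.leaf (nat_lit 6)) (.leaf (nat_lit 20))) (.leaf (nat_lit 22)))) (.node (.node (.node (.leaf (nat_lit 11)) (.leaf (nat_lit 33))) (.leaf (nat_lit 21))) (.node (.leaf (nat_lit 0)) (.leaf (nat_lit 0)))))))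

noncomputable def c_s4 : NT := (.node (.leaf (nat_lit 183942805598736)) (.leaf (nat_lit 80841396400656)))

noncomputable def c_t4 : NT := (.node (.node (.node (.leaf (nat_lit 205163983024656)) (.leaf (nat_lit 164327252963856))) (.node (.leaf (nat_lit 80841396400656)) (.leaf (nat_lit 153208536773136)))) (.node (.node (.leaf (nat_lit 183942805598736)) (.leaf (nat_lit 110731096240656))) (.node (.leaf (nat_lit 132399770186256)) (.leaf (nat_lit 95285065495056)))))

noncomputable def c_P4 : NT := (.node (.node (.node (.leaf (nat_lit 0)) (.leaf (nat_lit 3))) (.node (.leaf (nat_lit 1)) (.leaf (nat_lit 6)))) (.node (.node (.leaf (nat_lit 0)) (.leaf (nat_lit 4))) (.node (.leaf (nat_lit 2)) (.leaf (nat_lit 7)))))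

noncomputable def c_H4 : NT := (.node (.node (.node (.node (.leaf (nat_lit 1)) (.leaf (nat_lit 2))) (.node (.leaf (nat_lit 5)) (.leaf (nat_lit 0)))) (.node (.node (.leaf (nat_lit 3)) (.leaf (nat_lit 7))) (.node (.leaf (nat_lit 6)) (.leaf (nat_lit 4))))) (.node (.node (.node (.leaf (nat_lit 2)) (.leaf (nat_lit 6))) (.node (.leaf (nat_lit 3)) (.leaf (nat_lit 5)))) (.node (.node (.leaf (nat_lit 4)) (.leaf (nat_lit 1))) (.node (.leaf (nat_lit 7)) (.leaf (nat_lit 0))))))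

noncomputable def c_lv5 : List (ℕ × NT) := []

noncomputable def c_lv4 : List (ℕ × NT) := (nat_lit 8, c_t4) :: c_lv5

noncomputable def c_lv3 : List (ℕ × NT) := (nat_lit 9, c_t3) :: c_lv4

noncomputable def c_lv2 : List (ℕ × NT) := (nat_lit 10, c_t2) :: c_lv3

noncomputable def c_lv1 : List (ℕ × NT) := (nat_lit 11, c_t1) :: c_lv2

noncomputable def c_lv0 : List (ℕ × NT) := (nat_lit 12, c_t0) :: c_lv1

theorem c_valid0 : MM.Valid 8 c_s0 := by
  intro a ha
  interval_cases a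
  · exact ⟨g0, enc_g0, isOfFinOrder_of_finite _⟩
  · exact ⟨g1, enc_g1, isOfFinOrder_of_finite _⟩
  · exact ⟨g2, enc_g2, isOfFinOrder_of_finite _⟩
  · exact ⟨g3, enc_g3, isOfFinOrder_of_finite _⟩
  · exact ⟨g4, enc_g4, isOfFinOrder_of_finite _⟩
  · exact ⟨g5, enc_g5, isOfFinOrder_of_finite _⟩
  · exact ⟨g6, enc_g6, isOfFinOrder_of_finite _⟩
  · exact ⟨g7, enc_g7, isOfFinOrder_of_finite _⟩

noncomputable def c_W0 : NT := (.node (.node (.node (.leaf (nat_lit 1)) (.leaf (nat_lit 5))) (.node (.leaf (nat_lit 3)) (.leaf (nat_lit 7)))) (.node (.node (.leaf (nat_lit 2)) (.leaf (nat_lit 6))) (.leaf (nat_lit 4))))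

theorem c_sub0 : MM.subCheck 8 c_s0 7 c_s1 c_W0 2 = true := by decide +kernel

theorem c_mem0 : ∀ a, a < 7 → MM.Mem (MM.gen 8 c_s0) (c_s1.get a) :=
  Model.mem_of_subCheck (by norm_num) (fun _ ha => c_valid0.mem_gen ha) c_sub0

theorem c_le0 : MM.gen 7 c_s1 ≤ MM.gen 8 c_s0 := Model.gen_le c_mem0

theorem c_valid1 : MM.Valid 7 c_s1 := Model.valid_of_mem c_mem0

noncomputable def c_W1 : NT := (.node (.node (.node (.leaf (nat_lit 1)) (.leaf (nat_lit 5))) (.leaf (nat_lit 3))) (.node (.node (.leaf (nat_lit 2)) (.leaf (nat_lit 6))) (.leaf (nat_lit 4))))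

theorem c_sub1 : MM.subCheck 7 c_s1 6 c_s2 c_W1 2 = true := by decide +kernel

theorem c_mem1 : ∀ a, a < 6 → MM.Mem (MM.gen 7 c_s1) (c_s2.get a) :=
  Model.mem_of_subCheck (by norm_num) (fun _ ha => c_valid1.mem_gen ha) c_sub1

theorem c_le1 : MM.gen 6 c_s2 ≤ MM.gen 7 c_s1 := Model.gen_le c_mem1

theorem c_valid2 : MM.Valid 6 c_s2 := Model.valid_of_mem c_mem1

noncomputable def c_W2 : NT := (.node (.node (.node (.leaf (nat_lit 1)) (.leaf (nat_lit 5))) (.leaf (nat_lit 3))) (.node (.leaf (nat_lit 2)) (.leaf (nat_lit 4))))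

theorem c_sub2 : MM.subCheck 6 c_s2 5 c_s3 c_W2 2 = true := by decide +kernel

theorem c_mem2 : ∀ a, a < 5 → MM.Mem (MM.gen 6 c_s2) (c_s3.get a) :=
  Model.mem_of_subCheck (by norm_num) (fun _ ha => c_valid2.mem_gen ha) c_sub2

theorem c_le2 : MM.gen 5 c_s3 ≤ MM.gen 6 c_s2 := Model.gen_le c_mem2

theorem c_valid3 : MM.Valid 5 c_s3 := Model.valid_of_mem c_mem2

noncomputable def c_W3 : NT := (.node (.leaf (nat_lit 3)) (.leaf (nat_lit 4)))

theorem c_sub3 : MM.subCheck 5 c_s3 2 c_s4 c_W3 2 = true := by decide +kernel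

theorem c_mem3 : ∀ a, a < 2 → MM.Mem (MM.gen 5 c_s3) (c_s4.get a) :=
  Model.mem_of_subCheck (by norm_num) (fun _ ha => c_valid3.mem_gen ha) c_sub3

theorem c_le3 : MM.gen 2 c_s4 ≤ MM.gen 5 c_s3 := Model.gen_le c_mem3

theorem c_valid4 : MM.Valid 2 c_s4 := Model.valid_of_mem c_mem3

theorem c_le4 : ⊥ ≤ MM.gen 2 c_s4 := bot_le

theorem c_chain5 : MM.Chain ⊥ c_lv5 := MM.chain_bot

theorem c_tree4 : allLt 8 (MM.treeF 2 c_s4 c_t4 c_P4) = true := by decide +kernel

theorem c_sch4 : allLt (8 * 2) (MM.schF 2 c_s4 8 c_t4 c_lv5 c_H4) = true := by decide +kernel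

theorem c_chain4 : MM.Chain (MM.gen 2 c_s4) c_lv4 :=
  Model.chain_cons (by norm_num) c_valid4 c_chain5 c_le4 (by norm_num) c_tree4 c_sch4

theorem c_tmem4 : ∀ j, j < 8 → MM.Mem (MM.gen 2 c_s4) (c_t4.get j) :=
  Model.mem_of_treeF (by norm_num) (fun _ ha => c_valid4.mem_gen ha) c_tree4

theorem c_tree3 : allLt 9 (MM.treeF 5 c_s3 c_t3 c_P3) = true := by decide +kernel

theorem c_sch3 : allLt (9 * 5) (MM.schF 5 c_s3 9 c_t3 c_lv4 c_H3) = true := by decide +kernel

theorem c_chain3 : MM.Chain (MM.gen 5 c_s3) c_lv3 :=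
  Model.chain_cons (by norm_num) c_valid3 c_chain4 c_le3 (by norm_num) c_tree3 c_sch3

theorem c_tmem3 : ∀ j, j < 9 → MM.Mem (MM.gen 5 c_s3) (c_t3.get j) :=
  Model.mem_of_treeF (by norm_num) (fun _ ha => c_valid3.mem_gen ha) c_tree3

theorem c_tree2 : allLt 10 (MM.treeF 6 c_s2 c_t2 c_P2) = true := by decide +kernel

theorem c_sch2 : allLt (10 * 6) (MM.schF 6 c_s2 10 c_t2 c_lv3 c_H2) = true := by decide +kernel

theorem c_chain2 : MM.Chain (MM.gen 6 c_s2) c_lv2 :=
  Model.chain_cons (by norm_num) c_valid2 c_chain3 c_le2 (by norm_num) c_tree2 c_sch2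

theorem c_tmem2 : ∀ j, j < 10 → MM.Mem (MM.gen 6 c_s2) (c_t2.get j) :=
  Model.mem_of_treeF (by norm_num) (fun _ ha => c_valid2.mem_gen ha) c_tree2

theorem c_tree1 : allLt 11 (MM.treeF 7 c_s1 c_t1 c_P1) = true := by decide +kernel

theorem c_sch1 : allLt (11 * 7) (MM.schF 7 c_s1 11 c_t1 c_lv2 c_H1) = true := by decide +kernel

theorem c_chain1 : MM.Chain (MM.gen 7 c_s1) c_lv1 :=
  Model.chain_cons (by norm_num) c_valid1 c_chain2 c_le1 (by norm_num) c_tree1 c_sch1

theorem c_tmem1 : ∀ j, j < 11 → MM.Mem (MM.gen 7 c_s1) (c_t1.get j) :=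
  Model.mem_of_treeF (by norm_num) (fun _ ha => c_valid1.mem_gen ha) c_tree1

theorem c_tree0 : allLt 12 (MM.treeF 8 c_s0 c_t0 c_P0) = true := by decide +kernel

theorem c_sch0 : allLt (12 * 8) (MM.schF 8 c_s0 12 c_t0 c_lv1 c_H0) = true := by decide +kernel

theorem c_chain0 : MM.Chain (MM.gen 8 c_s0) c_lv0 :=
  Model.chain_cons (by norm_num) c_valid0 c_chain1 c_le0 (by norm_num) c_tree0 c_sch0

theorem c_tmem0 : ∀ j, j < 12 → MM.Mem (MM.gen 8 c_s0) (c_t0.get j) :=
  Model.mem_of_treeF (by norm_num) (fun _ ha => c_valid0.mem_gen ha) c_tree0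

noncomputable def c_I0 : NT := (.node (.node (.node (.node (.leaf (nat_lit 2)) (.leaf (nat_lit 11))) (.leaf (nat_lit 4))) (.node (.node (.leaf (nat_lit 0)) (.leaf (nat_lit 8))) (.leaf (nat_lit 5)))) (.node (.node (.node (.leaf (nat_lit 1)) (.leaf (nat_lit 9))) (.leaf (nat_lit 6))) (.node (.node (.leaf (nat_lit 3)) (.leaf (nat_lit 10))) (.leaf (nat_lit 7)))))

theorem ex0 : Nat.card (MM.gen 8 c_s0) = 12 * Nat.card ↥(MM.gen 7 c_s1) ∧
    MM.gen 8 c_s0 ⊓ MulAction.stabilizer _ (2 : Fin 12) = MM.gen 7 c_s1 :=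
  perm_chain_exact c_chain0 c_chain1 c_le0 (by norm_num) c_tmem0 (by decide +kernel) _ (gen_le_stabilizer _ (by decide +kernel))
    (I := c_I0) (by decide +kernel)

noncomputable def c_I1 : NT := (.node (.node (.node (.node (.leaf (nat_lit 1)) (.leaf (nat_lit 10))) (.leaf (nat_lit 3))) (.node (.node (.leaf (nat_lit 0)) (.leaf (nat_lit 7))) (.leaf (nat_lit 4)))) (.node (.node (.node (.leaf (nat_lit 0)) (.leaf (nat_lit 8))) (.leaf (nat_lit 5))) (.node (.node (.leaf (nat_lit 2)) (.leaf (nat_lit 9))) (.leaf (nat_lit 6)))))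

theorem ex1 : Nat.card (MM.gen 7 c_s1) = 11 * Nat.card ↥(MM.gen 6 c_s2) ∧
    MM.gen 7 c_s1 ⊓ MulAction.stabilizer _ (1 : Fin 12) = MM.gen 6 c_s2 :=
  perm_chain_exact c_chain1 c_chain2 c_le1 (by norm_num) c_tmem1 (by decide +kernel) _ (gen_le_stabilizer _ (by decide +kernel))
    (I := c_I1) (by decide +kernel)

noncomputable def c_I2 : NT := (.node (.node (.node (.node (.leaf (nat_lit 0)) (.leaf (nat_lit 9))) (.leaf (nat_lit 2))) (.node (.node (.leaf (nat_lit 0)) (.leaf (nat_lit 6))) (.leaf (nat_lit 3)))) (.node (.node (.node (.leaf (nat_lit 0)) (.leaf (nat_lit 7))) (.leaf (nat_lit 4))) (.node (.node (.leaf (nat_lit 1)) (.leaf (nat_lit 8))) (.leaf (nat_lit 5)))))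

theorem ex2 : Nat.card (MM.gen 6 c_s2) = 10 * Nat.card ↥(MM.gen 5 c_s3) ∧
    MM.gen 6 c_s2 ⊓ MulAction.stabilizer _ (0 : Fin 12) = MM.gen 5 c_s3 :=
  perm_chain_exact c_chain2 c_chain3 c_le2 (by norm_num) c_tmem2 (by decide +kernel) _ (gen_le_stabilizer _ (by decide +kernel))
    (I := c_I2) (by decide +kernel)

noncomputable def c_I3 : NT := (.node (.node (.node (.node (.leaf (nat_lit 0)) (.leaf (nat_lit 8))) (.leaf (nat_lit 1))) (.node (.node (.leaf (nat_lit 0)) (.leaf (nat_lit 5))) (.leaf (nat_lit 2)))) (.node (.node (.node (.leaf (nat_lit 0)) (.leaf (nat_lit 6))) (.leaf (nat_lit 3))) (.node (.node (.leaf (nat_lit 0)) (.leaf (nat_lit 7))) (.leaf (nat_lit 4)))))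

theorem ex3 : Nat.card (MM.gen 5 c_s3) = 9 * Nat.card ↥(MM.gen 2 c_s4) ∧
    MM.gen 5 c_s3 ⊓ MulAction.stabilizer _ (3 : Fin 12) = MM.gen 2 c_s4 :=
  perm_chain_exact c_chain3 c_chain4 c_le3 (by norm_num) c_tmem3 (by decide +kernel) _ (gen_le_stabilizer _ (by decide +kernel))
    (I := c_I3) (by decide +kernel)

noncomputable def c_I4 : NT := (.node (.node (.node (.node (.leaf (nat_lit 0)) (.leaf (nat_lit 5))) (.leaf (nat_lit 0))) (.node (.node (.leaf (nat_lit 0)) (.leaf (nat_lit 4))) (.leaf (nat_lit 1)))) (.node (.node (.node (.leaf (nat_lit 0)) (.leaf (nat_lit 6))) (.leaf (nat_lit 3))) (.node (.node (.leaf (nat_lit 0)) (.leaf (nat_lit 7))) (.leaf (nat_lit 2)))))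

theorem ex4 : Nat.card (MM.gen 2 c_s4) = 8 * Nat.card ↥((⊥ : Subgroup (Equiv.Perm (Fin 12)))) ∧
    MM.gen 2 c_s4 ⊓ MulAction.stabilizer _ (4 : Fin 12) = (⊥ : Subgroup (Equiv.Perm (Fin 12))) :=
  perm_chain_exact c_chain4 c_chain5 c_le4 (by norm_num) c_tmem4 (by decide +kernel) _ bot_le
    (I := c_I4) (by decide +kernel)

theorem gen0_eq : MM.gen 8 c_s0 = Subgroup.closure {g0, g1, g2, g3, g4, g5, g6, g7} := by
  apply Model.gen_eq_closure
  · rintro x (rfl | rfl | rfl | rfl | rfl | rfl | rfl | rfl)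
    · exact ⟨0, by norm_num, enc_g0⟩
    · exact ⟨1, by norm_num, enc_g1⟩
    · exact ⟨2, by norm_num, enc_g2⟩
    · exact ⟨3, by norm_num, enc_g3⟩
    · exact ⟨4, by norm_num, enc_g4⟩
    · exact ⟨5, by norm_num, enc_g5⟩
    · exact ⟨6, by norm_num, enc_g6⟩
    · exact ⟨7, by norm_num, enc_g7⟩
  · intro a ha
    interval_cases a
    · exact ⟨g0, by simp, enc_g0⟩
    · exact ⟨g1, by simp, enc_g1⟩
    · exact ⟨g2, by simp, enc_g2⟩
    · exact ⟨g3, by simp, enc_g3⟩
    · exact ⟨g4, by simp, enc_g4⟩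
    · exact ⟨g5, by simp, enc_g5⟩
    · exact ⟨g6, by simp, enc_g6⟩
    · exact ⟨g7, by simp, enc_g7⟩

theorem gen1_eq : MM.gen 7 c_s1 = Subgroup.closure {g0, g1, g2, g3, g4, g5, g6} := by
  apply Model.gen_eq_closure
  · rintro x (rfl | rfl | rfl | rfl | rfl | rfl | rfl)
    · exact ⟨0, by norm_num, enc_g0⟩
    · exact ⟨1, by norm_num, enc_g1⟩
    · exact ⟨2, by norm_num, enc_g2⟩
    · exact ⟨3, by norm_num, enc_g3⟩
    · exact ⟨4, by norm_num, enc_g4⟩
    · exact ⟨5, by norm_num, enc_g5⟩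
    · exact ⟨6, by norm_num, enc_g6⟩
  · intro a ha
    interval_cases a
    · exact ⟨g0, by simp, enc_g0⟩
    · exact ⟨g1, by simp, enc_g1⟩
    · exact ⟨g2, by simp, enc_g2⟩
    · exact ⟨g3, by simp, enc_g3⟩
    · exact ⟨g4, by simp, enc_g4⟩
    · exact ⟨g5, by simp, enc_g5⟩
    · exact ⟨g6, by simp, enc_g6⟩


theorem card1 : Nat.card (MM.gen 7 c_s1) = 7920 := by
  rw [ex1.1, ex2.1, ex3.1, ex4.1, Subgroup.card_bot]

theorem card0 : Nat.card (MM.gen 8 c_s0) = 95040 := by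
  rw [ex0.1, card1]

def y0 : Fin 5 ↪ Fin 12 := ⟨![2, 1, 0, 3, 4], by decide⟩

theorem stab_y0 : MulAction.stabilizer (MM.gen 8 c_s0) y0 = ⊥ := by
  rw [eq_bot_iff]
  rintro ⟨g, hg⟩ h
  have h' : ∀ i, g (y0 i) = y0 i := fun i => DFunLike.congr_fun (MulAction.mem_stabilizer_iff.1 h) i
  have h1 : g ∈ MM.gen 7 c_s1 := ex0.2 ▸ ⟨hg, h' 0⟩
  have h2 : g ∈ MM.gen 6 c_s2 := ex1.2 ▸ ⟨h1, h' 1⟩
  have h3 : g ∈ MM.gen 5 c_s3 := ex2.2 ▸ ⟨h2, h' 2⟩
  have h4 : g ∈ MM.gen 2 c_s4 := ex3.2 ▸ ⟨h3, h' 3⟩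
  have h5 : g ∈ (⊥ : Subgroup (Equiv.Perm (Fin 12))) := ex4.2 ▸ ⟨h4, h' 4⟩
  exact Subtype.ext h5

theorem trans5 : MulAction.IsMultiplyPretransitive (MM.gen 8 c_s0) (Fin 12) 5 := by
  refine (MulAction.isPretransitive_iff_orbit_eq_univ y0).2 ?_
  rw [Set.eq_univ_iff_ncard,
    ← MulAction.index_stabilizer, stab_y0, Subgroup.index_bot, card0, Nat.card_eq_fintype_card,
    Fintype.card_embedding_eq]
  simp [Nat.descFactorial]

theorem stab_all (y : Fin 5 ↪ Fin 12) : MulAction.stabilizer (MM.gen 8 c_s0) y = ⊥ := by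
  obtain ⟨g, rfl⟩ := trans5.exists_smul_eq y0 y
  refine (MulAction.stabilizer_smul_eq_stabilizer_map_conj g y0).trans ?_
  rw [stab_y0, Subgroup.map_bot]

end CfsgH9.M12P

namespace Cfsg.Agent.S3362

open CfsgH9 CfsgH9.M12P

/-- An explicit construction of the Mathieu groups of degrees 11 and 12. On the points 0, …, 11 let s = (3 4 5)(6 7 8)(9 10 11), t = (3 6 9)(4 7 10)(5 8 11), u = (4 6 5 9)(7 8 11 10), v = (4 7 5 11)(6 10 9 8), w = (4 10 5 8)(6 11 9 7), x₁ = (0 3)(6 7)(8 10)(9 11), x₂ = (0 1)(6 9)(7 10)(8 11), x₃ = (1 2)(6 11)(7 9)(8 10) (each written as a product of transpositions). Then the group M₁₂ generated by all eight permutations is sharply 5-transitive on the 12 points and has order 95040, and the group M₁₁ generated by the first seven has order 7920 and is the stabilizer of the point 2 in M₁₂. -/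
theorem result
    (s t u v w x₁ x₂ x₃ : Equiv.Perm (Fin 12))
    (hs : s = Equiv.swap (3 : Fin 12) 5 * Equiv.swap (3 : Fin 12) 4 * Equiv.swap (6 : Fin 12) 8 * Equiv.swap (6 : Fin 12) 7 * Equiv.swap (9 : Fin 12) 11 * Equiv.swap (9 : Fin 12) 10) (ht : t = Equiv.swap (3 : Fin 12) 9 * Equiv.swap (3 : Fin 12) 6 * Equiv.swap (4 : Fin 12) 10 * Equiv.swap (4 : Fin 12) 7 * Equiv.swap (5 : Fin 12) 11 * Equiv.swap (5 : Fin 12) 8)
    (hu : u = Equiv.swap (4 : Fin 12) 9 * Equiv.swap (4 : Fin 12) 5 * Equiv.swap (4 : Fin 12) 6 * Equiv.swap (7 : Fin 12) 10 * Equiv.swap (7 : Fin 12) 11 * Equiv.swap (7 : Fin 12) 8) (hv : v = Equiv.swap (4 : Fin 12) 11 * Equiv.swap (4 : Fin 12) 5 * Equiv.swap (4 : Fin 12) 7 * Equiv.swap (6 : Fin 12) 8 * Equiv.swap (6 : Fin 12) 9 * Equiv.swap (6 : Fin 12) 10) (hw : w = Equiv.swap (4 : Fin 12) 8 * Equiv.swap (4 : Fin 12) 5 * Equiv.swap (4 : Fin 12) 10 * Equiv.swap (6 : Fin 12) 7 * Equiv.swap (6 : Fin 12) 9 * Equiv.swap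 (6 : Fin 12) 11)
    (hx₁ : x₁ = Equiv.swap (0 : Fin 12) 3 * Equiv.swap (6 : Fin 12) 7 * Equiv.swap (8 : Fin 12) 10 * Equiv.swap (9 : Fin 12) 11) (hx₂ : x₂ = Equiv.swap (0 : Fin 12) 1 * Equiv.swap (6 : Fin 12) 9 * Equiv.swap (7 : Fin 12) 10 * Equiv.swap (8 : Fin 12) 11)
    (hx₃ : x₃ = Equiv.swap (1 : Fin 12) 2 * Equiv.swap (6 : Fin 12) 11 * Equiv.swap (7 : Fin 12) 9 * Equiv.swap (8 : Fin 12) 10)
    (M₁₂ M₁₁ : Subgroup (Equiv.Perm (Fin 12))) (hM₁₂ : M₁₂ = Subgroup.closure {s, t, u, v, w, x₁, x₂, x₃})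
    (hM₁₁ : M₁₁ = Subgroup.closure {s, t, u, v, w, x₁, x₂}) :
    MulAction.IsMultiplyPretransitive M₁₂ (Fin 12) 5 ∧ (∀ y : Fin 5 ↪ Fin 12, MulAction.stabilizer M₁₂ y = ⊥) ∧
    Nat.card M₁₂ = 95040 ∧ Nat.card M₁₁ = 7920 ∧
    M₁₁ = M₁₂ ⊓ MulAction.stabilizer (Equiv.Perm (Fin 12)) (2 : Fin 12) := by
  have e12 : M₁₂ = MM.gen 8 c_s0 := by
    rw [hM₁₂, hs, ht, hu, hv, hw, hx₁, hx₂, hx₃]; exact gen0_eq.symm
  have e11 : M₁₁ = MM.gen 7 c_s1 := by
    rw [hM₁₁, hs, ht, hu, hv, hw, hx₁, hx₂]; exact gen1_eq.symm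
  rw [e12, e11]
  exact ⟨trans5, stab_all, card0, card1, ex0.2.symm⟩

end Cfsg.Agent.S3362
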