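import Cfsg.Statements.S3372
import Cfsg.Agent.H2.T3H
import Cfsg.Agent.H2.T3I
import Cfsg.Agent.H7.T3P
import Cfsg.Agent.H6.O8End

set_option autoImplicit false
open Cfsg

namespace Cfsg.Agent.S3372

/-- A 3-local recognition of the extensions Ω⁺₈(2).3 and Ω⁺₈(2).Sym(3). Let G be a finite group, S a Sylow 3-subgroup, Z = Z(S), C = C_G(Z) and Q = O₃(C). Suppose Q is extraspecial of order 3^5 and exponent 3, C_G(Q) ≤ Q, some conjugate of Z other than Z lies in Q, and C/Q is isomorphic to SL(2,3) or to SL(2,3) × C₂. Let K be the preimage in C of the subgroup of C/Q generated by its elements of odd order, and suppose that some maximal chain of K-invariant subgroups from Z to Q (a K-chief chain of Q/Z) has exactly one factor on which K acts non-trivially. Then G has a normal subgroup N isomorphic to Ω⁺₈(2) with C_G(N) = 1 and |G : N| = 3 or 6. -/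
theorem result {G : Type*} [Group G] [Finite G]
    (S : Sylow 3 G) (Z : Subgroup G) (hZ : Z = (S : Subgroup G) ⊓ Subgroup.centralizer ((S : Subgroup G) : Set G))
    (C : Subgroup G) (hCZ : C = Subgroup.centralizer (Z : Set G))
    (Q : Subgroup G) (hQ : Q = (Cfsg.pCore 3 C).map C.subtype)
    (hQex : Cfsg.IsExtraspecial 3 Q) (hQcard : Nat.card Q = 3 ^ 5) (hQexp : ∀ a ∈ Q, a ^ 3 = 1)
    (hCQ : Subgroup.centralizer (Q : Set G) ≤ Q)
    (hZQ : ∃ x : G, Z.map (MulAut.conj x).toMonoidHom ≤ Q ∧ Z.map (MulAut.conj x).toMonoidHom ≠ Z)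
    (K : Subgroup G) (hK : K = ((Cfsg.pResidual 2 (C ⧸ Cfsg.pCore 3 C)).comap (QuotientGroup.mk' (Cfsg.pCore 3 C))).map C.subtype)
    (r : ℕ) (A : Fin (r + 1) → Subgroup G) (hA0 : A 0 = Z) (hAr : A (Fin.last r) = Q)
    (hmono : ∀ i : Fin r, A i.castSucc < A i.succ)
    (hinv : ∀ i : Fin (r + 1), ∀ k ∈ K, ∀ a ∈ A i, k * a * k⁻¹ ∈ A i)
    (hmax : ∀ i : Fin r, ∀ B : Subgroup G, A i.castSucc < B → B < A i.succ → ∃ k ∈ K, ∃ b ∈ B, k * b * k⁻¹ ∉ B)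
    (e : Nonempty (C ⧸ Cfsg.pCore 3 C ≃* Matrix.SpecialLinearGroup (Fin 2) (ZMod 3)) ∨
      Nonempty (C ⧸ Cfsg.pCore 3 C ≃* Matrix.SpecialLinearGroup (Fin 2) (ZMod 3) × Multiplicative (ZMod 2)))
    (hone : ∃! i : Fin r, (∃ k ∈ K, ∃ a ∈ A i.succ, k * a * k⁻¹ * a⁻¹ ∉ A i.castSucc)) :
    ∃ N : Subgroup G, N.Normal ∧ Nonempty (N ≃* Cfsg.Omega (ZMod 2) (Cfsg.quadFormPlus 4 (ZMod 2))) ∧
      Subgroup.centralizer (N : Set G) = ⊥ ∧ (N.index = 3 ∨ N.index = 6) := by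
  open Subgroup CfsgH5 CfsgH6 CfsgFT CfsgH9 CfsgH1.L43 CfsgH2.T3 in
  obtain ⟨x, hx1, hx2⟩ := hZQ
  have hS := sylIn_top_of_sylow S
  have hSC : (S : Subgroup G) ≤ C := hCZ ▸ le_C_comm.1 (hZ ▸ inf_le_right)
  have hQS : Q ≤ S := hQ ▸ (hS.of_le hSC le_top).Op_le Nat.prime_three
  obtain ⟨z, hz, z1⟩ := (bot_or_exists_ne_one Z).resolve_left fun e => hx2 (by simp [e])
  have hZQ : Z ≤ CfsgFT.Z Q := by
    have : Z ≤ CfsgFT.C Q := hZ ▸ inf_le_right.trans (centralizer_le hQS)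
    exact le_inf (this.trans hCQ) this
  have h1 : CfsgFT.Z Q = zpowers z := eq_zpowers_of_prime_card (by
    rw [show CfsgFT.Z Q = (center Q).map Q.subtype from ext fun a => ⟨fun h => ⟨⟨a, h.1⟩,
      mem_center_iff.2 fun b => Subtype.ext (h.2 b b.2), rfl⟩, by
        rintro ⟨b, h, rfl⟩
        exact ⟨b.2, fun c hc => congrArg Subtype.val (mem_center_iff.1 h ⟨c, hc⟩)⟩⟩,
      card_map_of_injective (subtype_injective _), hQex.2]
    norm_num) (hZQ hz) z1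
  obtain rfl : Z = zpowers z := le_antisymm (h1 ▸ hZQ) (zpowers_le.2 hz)
  obtain rfl : C = C1 z := hCZ.trans (C_zpowers z)
  obtain rfl : Q = Qz z := hQ
  obtain ⟨l, π, ε, hπ, hK'⟩ := lz_of z1 hQex hQcard hQexp hCQ e
  change cj x _ ≤ _ at hx1
  change cj x _ ≠ _ at hx2
  rw [cj_zpowers] at hx1 hx2
  obtain ⟨f, h⟩ := fr_of l hπ (red_of l hπ (hK ▸ hK') hA0 hAr hmono hmax hone) (hx1 (mem_zpowers _))
    (fun e => hx2 (eq_of_le_of_card_le (zpowers_le.2 e) (by rw [← cj_zpowers, card_cj]))) fun P hP => by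
      refine (hS.card_le le_top hP).trans ?_
      obtain ⟨m, hm⟩ := IsPGroup.iff_card.1 S.isPGroup'
      have h5 := (card_dvd_of_le hSC).trans (card_mul_relIndex (Qz_le z) ▸
        Nat.mul_dvd_mul_left _ hπ.relIndex)
      rw [l.card, hm, show 243 * 48 = 16 * 3 ^ 6 from rfl] at h5
      exact hm ▸ Nat.le_of_dvd (by norm_num)
        ((Nat.Coprime.pow_left m (by norm_num)).dvd_of_dvd_mul_left h5)
  obtain ⟨φ, inj, e1, e2, e3, e4⟩ := h.exists_phi (h.cent_d h.cent_e).1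
  have hτ := h.τ_not (by
    rw [← e1, ← Nat.card_congr (MonoidHom.ofInjective inj).toEquiv, CfsgH2.O8.om_facts.2.2]; norm_num)
  obtain ⟨e5, e6⟩ := endgame φ inj (e1 ▸ h.τ_N) (e1 ▸ h.s_N) h.τ3 h.ss h.sτ (e2 ▸ h.τt) e3 e4
    ⟨f.a, e1 ▸ f.J_le_H f.a_mem, f.jv_a ▸ h.ne (by decide), h.exp _ f.a_mem, h.sa⟩
    (e1 ▸ fun j hj j1 j3 g => h.se hτ hj j1 j3)
  rw [e1] at e5 e6
  exact ⟨f.H, normalizer_eq_top_iff.1 (eq_top_iff.2 (e5.ge.trans h.M_le_N)),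
    ⟨(MulEquiv.subgroupCongr e1.symm).trans (MonoidHom.ofInjective inj).symm⟩, h.C_H, e6⟩

end Cfsg.Agent.S3372
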