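import Cfsg.Statements.S3373
import Cfsg.Agent.H1.L43Fin

set_option autoImplicit false
open Cfsg

namespace Cfsg.Agent.S3373

/-- A 3-local recognition of PSL(4,3). Let G be a finite group, S a Sylow 3-subgroup, Z = Z(S), C = C_G(Z) and Q = O₃(C). Suppose Q is extraspecial of order 3^5 and exponent 3, C_G(Q) ≤ Q, some conjugate of Z other than Z lies in Q, and C/Q is isomorphic to SL(2,3). Let K be the preimage in C of the subgroup of C/Q generated by its elements of odd order (here K = C), and suppose that some maximal chain of K-invariant subgroups from Z to Q has exactly two factors on which K acts non-trivially. Then G is isomorphic to PSL(4,3), or to a maximal subgroup P of PSL(4,3) with |O₃(P)| = 27 and P/O₃(P) isomorphic to SL(3,3) (a maximal parabolic subgroup of shape 3^3.SL(3,3)). -/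
theorem result {G : Type*} [Group G] [Finite G]
    (S : Sylow 3 G) (Z : Subgroup G) (hZ : Z = (S : Subgroup G) ⊓ Subgroup.centralizer ((S : Subgroup G) : Set G))
    (C : Subgroup G) (hCZ : C = Subgroup.centralizer (Z : Set G))
    (Q : Subgroup G) (hQ : Q = (Cfsg.pCore 3 C).map C.subtype)
    (hQex : Cfsg.IsExtraspecial 3 Q) (hQcard : Nat.card Q = 3 ^ 5) (hQexp : ∀ a ∈ Q, a ^ 3 = 1)
    (hCQ : Subgroup.centralizer (Q : Set G) ≤ Q)
    (hZQ : ∃ x : G, Z.map (MulAut.conj x).toMonoidHom ≤ Q ∧ Z.map (MulAut.conj x).toMonoidHom ≠ Z)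
    (K : Subgroup G) (hK : K = ((Cfsg.pResidual 2 (C ⧸ Cfsg.pCore 3 C)).comap (QuotientGroup.mk' (Cfsg.pCore 3 C))).map C.subtype)
    (r : ℕ) (A : Fin (r + 1) → Subgroup G) (hA0 : A 0 = Z) (hAr : A (Fin.last r) = Q)
    (hmono : ∀ i : Fin r, A i.castSucc < A i.succ)
    (hinv : ∀ i : Fin (r + 1), ∀ k ∈ K, ∀ a ∈ A i, k * a * k⁻¹ ∈ A i)
    (hmax : ∀ i : Fin r, ∀ B : Subgroup G, A i.castSucc < B → B < A i.succ → ∃ k ∈ K, ∃ b ∈ B, k * b * k⁻¹ ∉ B)
    (e : C ⧸ Cfsg.pCore 3 C ≃* Matrix.SpecialLinearGroup (Fin 2) (ZMod 3))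
    (htwo : ∃ i j : Fin r, i ≠ j ∧ (∃ k ∈ K, ∃ a ∈ A i.succ, k * a * k⁻¹ * a⁻¹ ∉ A i.castSucc) ∧ (∃ k ∈ K, ∃ a ∈ A j.succ, k * a * k⁻¹ * a⁻¹ ∉ A j.castSucc) ∧
      ∀ l : Fin r, (∃ k ∈ K, ∃ a ∈ A l.succ, k * a * k⁻¹ * a⁻¹ ∉ A l.castSucc) → l = i ∨ l = j) :
    Nonempty (G ≃* Matrix.ProjectiveSpecialLinearGroup (Fin 4) (ZMod 3)) ∨
    ∃ (P : Subgroup (Matrix.ProjectiveSpecialLinearGroup (Fin 4) (ZMod 3))),
      IsCoatom P ∧ Nat.card (Cfsg.pCore 3 P) = 27 ∧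
      Nonempty (P ⧸ Cfsg.pCore 3 P ≃* Matrix.SpecialLinearGroup (Fin 3) (ZMod 3)) ∧ Nonempty (G ≃* P) := by
  open Subgroup CfsgH5 CfsgH6 CfsgFT CfsgH9 CfsgH1.L43 in
  obtain ⟨x, hx1, hx2⟩ := hZQ
  have hS := sylIn_top_of_sylow S
  have hSC : (S : Subgroup G) ≤ C := hCZ ▸ le_C_comm.1 (hZ ▸ inf_le_right)
  have hQS : Q ≤ S := hQ ▸ (hS.of_le hSC le_top).Op_le Nat.prime_three
  obtain ⟨z, hz, z1⟩ := (bot_or_exists_ne_one Z).resolve_left fun e => hx2 (by simp [e])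
  have hZQ : Z ≤ CfsgFT.Z Q := by
    have : Z ≤ CfsgFT.C Q := hZ ▸ inf_le_right.trans (centralizer_le hQS)
    exact le_inf (this.trans hCQ) this
  have h1 : CfsgFT.Z Q = zpowers z := eq_zpowers_of_prime_card (by
    rw [show CfsgFT.Z Q = (center Q).map Q.subtype from ext fun a => ⟨fun h => ⟨⟨a, h.1⟩,
      mem_center_iff.2 fun b => Subtype.ext (h.2 b b.2), rfl⟩, by
        rintro ⟨b, h, rfl⟩
        exact ⟨b.2, fun c hc => congrArg Subtype.val (mem_center_iff.1 h ⟨c, hc⟩)⟩⟩,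
      card_map_of_injective (subtype_injective _), hQex.2]
    norm_num) (hZQ hz) z1
  obtain rfl : Z = zpowers z := le_antisymm (h1 ▸ hZQ) (zpowers_le.2 hz)
  obtain rfl : C = C1 z := hCZ.trans (C_zpowers z)
  obtain rfl : Q = Qz z := hQ
  obtain rfl : K = C1 z := by rw [hK, res_top e, comap_top, ← MonoidHom.range_eq_map, range_subtype]
  have h2 := (loc0_of z1 hQex hQcard hQexp hCQ e).1
  change cj x _ ≤ _ at hx1
  change cj x _ ≠ _ at hx2
  rw [cj_zpowers] at hx1 hx2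
  have yQ := hx1 (mem_zpowers _)
  have yZ : x * z * x⁻¹ ∉ zpowers z := fun e => hx2 (eq_of_le_of_card_le (zpowers_le.2 e) (by
    rw [← cj_zpowers, card_cj]))
  obtain ⟨s, s', π, h3⟩ := exists_gen h2 (h2.conj x) yQ yZ
  have mono := (Fin.strictMono_iff_lt_succ.2 hmono).monotone
  have n : ∀ i, C1 z ≤ N (A i) := fun i g hg => mem_N_of_conj (hinv i g hg)
  have key : ∀ i j : Fin r, i < j → (∃ k ∈ C1 z, ∃ a ∈ A i.succ, k * a * k⁻¹ * a⁻¹ ∉ A i.castSucc) →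
      (∃ k ∈ C1 z, ∃ a ∈ A j.succ, k * a * k⁻¹ * a⁻¹ ∉ A j.castSucc) → CfsgH1.L43.Inv z := fun i j hij p q =>
    h3.inv_of_chain (hA0 ▸ mono (Fin.zero_le _)) (hmono i).le (mono hij) (hmono j).le
      (hAr ▸ mono (Fin.le_last _)) (n _) (n _) (n _) (n _) (hmax i) (hmax j) p q
  obtain ⟨i, j, hij, p, q, -⟩ := htwo
  have h4 : Loc z := ⟨h2, hij.lt_or_gt.elim (fun h => key i j h p q) fun h => key j i h q p⟩
  refine (main h4 (h4.conj' x) yQ yZ fun P hP => (hS.card_le le_top hP).trans ?_).imp_right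
    fun h => ⟨_, coatom9, card_op9, quo9, h⟩
  obtain ⟨m, hm⟩ := IsPGroup.iff_card.1 S.isPGroup'
  have h5 := card_dvd_of_le hSC
  rw [h2.card_C1, hm, show 5832 = 8 * 3 ^ 6 from rfl] at h5
  exact hm ▸ Nat.le_of_dvd (by norm_num) ((Nat.Coprime.pow_left m (by norm_num)).dvd_of_dvd_mul_left h5)

end Cfsg.Agent.S3373
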