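import Cfsg.Statements.S3404
import Cfsg.Agent.H1.Q4A7

set_option autoImplicit false
open Cfsg

namespace Cfsg.Agent.S3404

/-- Let G be a four-fold transitive permutation group on a finite set in which the stabilizer of four points is a Frobenius group (it has a nontrivial proper subgroup H with H ∩ gHg⁻¹ = 1 for every element g outside H). Then G is isomorphic to the symmetric group of degree 7, the alternating group of degree 8, or the Mathieu group M₂₃. -/
theorem result {G : Type*} [Group G] [Finite G] {Ω : Type*} [Fintype Ω] [MulAction G Ω] [FaithfulSMul G Ω]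
    (h4 : MulAction.IsMultiplyPretransitive G Ω 4) (a b c d : Ω) (hab : a ≠ b) (hac : a ≠ c) (had : a ≠ d)
    (hbc : b ≠ c) (hbd : b ≠ d) (hcd : c ≠ d)
    (hF : ∃ H : Subgroup ↥(MulAction.stabilizer G a ⊓ MulAction.stabilizer G b ⊓ MulAction.stabilizer G c ⊓ MulAction.stabilizer G d),
      Cfsg.IsFrobeniusComplement H) :
    Nonempty (G ≃* Equiv.Perm (Fin 7)) ∨ Nonempty (G ≃* ↥(alternatingGroup (Fin 8))) ∨ Cfsg.Spor.IsoM23 G := by
  obtain ⟨H, hH⟩ := hF
  exact CfsgH1.Q4.main h4 ⟨hab, hac, had, hbc, hbd, hcd⟩ hH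

end Cfsg.Agent.S3404
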