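import Cfsg.Statements.S3422
import Cfsg.Agent.H7.W3Fin

set_option autoImplicit false
open Cfsg

namespace Cfsg.Agent.S3422

/-- Let F be any finite field. A finite group G is isomorphic to PSL(3, F) if and only if G has the same set of element orders and the same order as PSL(3, F). -/
theorem result {G : Type*} [Group G] [Finite G] {F : Type*} [Field F] [Fintype F] :
    Nonempty (G ≃* Matrix.ProjectiveSpecialLinearGroup (Fin 3) F) ↔
      (Set.range (orderOf : G → ℕ) = Set.range (orderOf : Matrix.ProjectiveSpecialLinearGroup (Fin 3) F → ℕ) ∧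
        Nat.card G = Nat.card (Matrix.ProjectiveSpecialLinearGroup (Fin 3) F)) := by
  refine ⟨fun ⟨f⟩ => ⟨?_, Nat.card_congr f.toEquiv⟩, fun ⟨e, c⟩ => CfsgW3.psl3_rec e c⟩
  ext t
  exact ⟨fun ⟨g, h⟩ => ⟨f g, (f.orderOf_eq g).trans h⟩,
    fun ⟨g, h⟩ => ⟨f.symm g, (f.symm.orderOf_eq g).trans h⟩⟩

end Cfsg.Agent.S3422
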