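import Cfsg.Statements.S3424
import Cfsg.Agent.H7.V3Fin

set_option autoImplicit false
open Cfsg

namespace Cfsg.Agent.S3424

/-- Let q be a prime power and F the field with q² elements. A finite group G is isomorphic to the projective special unitary group PSU(3, q) if and only if G has the same set of element orders and the same order as PSU(3, q). -/
theorem result {G : Type*} [Group G] [Finite G] {F : Type*} [Field F] [Fintype F] (q : ℕ) (hF : Fintype.card F = q ^ 2) :
    Nonempty (G ≃* Cfsg.PSU 3 F q) ↔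
      (Set.range (orderOf : G → ℕ) = Set.range (orderOf : Cfsg.PSU 3 F q → ℕ) ∧ Nat.card G = Nat.card (Cfsg.PSU 3 F q)) := by
  refine ⟨fun ⟨f⟩ => ⟨?_, Nat.card_congr f.toEquiv⟩, fun ⟨e, c⟩ => CfsgV3.psu3_rec hF e c⟩
  ext t
  exact ⟨fun ⟨g, h⟩ => ⟨f g, (f.orderOf_eq g).trans h⟩,
    fun ⟨g, h⟩ => ⟨f.symm g, (f.symm.orderOf_eq g).trans h⟩⟩

end Cfsg.Agent.S3424
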