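import Cfsg.Statements.S3497
import Cfsg.Agent.H4.ElemAb

set_option autoImplicit false
open Cfsg

namespace Cfsg.Agent.S3497

/-- Restrictions on the point stabilizer of an extremely primitive group. Let a finite group G act faithfully and primitively on a finite set Ω with point stabilizers H = G_α whose order is neither 1 nor a prime, each acting primitively on every one of its orbits. Then H has trivial center, the Fitting subgroup F(H) is an elementary abelian p-group for some prime p, and if F(H) ≠ 1 has order p ^ e then p ^ e divides the number of points minus one and H / F(H) embeds in GL_e(p) (there is a homomorphism from H to GL_e(p) with kernel exactly F(H)). -/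
theorem result {G : Type*} [Group G] [Finite G] {Ω : Type*} [Fintype Ω] [MulAction G Ω] [FaithfulSMul G Ω] (hprim : MulAction.IsPreprimitive G Ω) (hep : ∀ (α : Ω) (ω : Ω), MulAction.IsPreprimitive (MulAction.stabilizer G α) (MulAction.orbit (MulAction.stabilizer G α) ω)) (α : Ω)
    (hH1 : MulAction.stabilizer G α ≠ ⊥) (hHp : ¬ (Nat.card (MulAction.stabilizer G α)).Prime) :
    Subgroup.center (MulAction.stabilizer G α) = ⊥ ∧
    IsMulCommutative (Cfsg.fittingSubgroup (MulAction.stabilizer G α)) ∧
    ∃ p e : ℕ, p.Prime ∧ Nat.card (Cfsg.fittingSubgroup (MulAction.stabilizer G α)) = p ^ e ∧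
      (∀ x ∈ Cfsg.fittingSubgroup (MulAction.stabilizer G α), x ^ p = 1) ∧
      (Cfsg.fittingSubgroup (MulAction.stabilizer G α) ≠ ⊥ →
        p ^ e ∣ Fintype.card Ω - 1 ∧
        ∃ φ : MulAction.stabilizer G α →* GL (Fin e) (ZMod p), φ.ker = Cfsg.fittingSubgroup (MulAction.stabilizer G α)) := by
  open MulAction CfsgH4 in
  obtain ⟨ω₀, hω₀⟩ := exists_ne_of_ne_bot hH1 α
  have hf := faithfulSMul_orbit hprim hep hω₀
  have hnt := nontrivial_orbit hprim hω₀ hH1
  have hcomm := fittingSubgroup_comm (hep α ω₀)
  have hFn := fittingSubgroup_normal (G := stabilizer G α)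
  refine ⟨?_, ⟨⟨fun x y => Subtype.ext (hcomm x x.2 y y.2)⟩⟩, ?_⟩
  · by_contra h
    exact hHp (prime_card_of_center_ne_bot (hep α ω₀) h)
  by_cases hF : Cfsg.fittingSubgroup (stabilizer G α) = ⊥
  · refine ⟨2, 0, Nat.prime_two, by rw [hF]; simp, ?_, fun h => absurd hF h⟩
    intro x hx
    rw [hF, Subgroup.mem_bot] at hx
    rw [hx, one_pow]
  obtain ⟨p, hp, hpF⟩ := exists_prime_pow_eq_one_of_comm_normal (hep α ω₀) _ hF hcomm
  have := Fact.mk hp
  obtain ⟨e, φ, hcard, hker⟩ := exists_hom_GL_ker_eq_centralizer _ hcomm p hpF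
  refine ⟨p, e, hp, hcard, hpF, fun _ => ⟨?_, φ, ?_⟩⟩
  · apply dvd_card_sub_one_of_orbits (H := stabilizer G α) (α := α) (fun h => h.2)
    intro ω hω
    have := faithfulSMul_orbit hprim hep hω
    have := normal_isPretransitive (hep α ω) _ hF
    have : Nonempty (orbit (stabilizer G α) ω) := ⟨⟨ω, mem_orbit_self ω⟩⟩
    rw [← hcard]
    exact (card_eq_of_comm_transitive _ hcomm).symm
  · rw [hker]
    have := normal_isPretransitive (hep α ω₀) _ hF
    apply le_antisymm
    · intro c hc
      exact centralizer_le_of_comm_transitive (Ω := orbit (stabilizer G α) ω₀) _ hcomm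
        (Subgroup.mem_centralizer_iff.1 hc)
    · intro c hc
      exact Subgroup.mem_centralizer_iff.2 (fun x hx => hcomm x hx c hc)

end Cfsg.Agent.S3497
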