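import Cfsg.Statements.S3501
import Cfsg.Agent.H3.ZassBasic
import Cfsg.Agent.H6.MinNormal

set_option autoImplicit false
open Cfsg

namespace Cfsg.Agent.S3501

/-- Let a finite group G act faithfully and primitively on a finite set Ω with at least two points, and suppose G is not almost simple (it has no non-abelian simple normal subgroup with trivial centralizer). Then the derangements of G form a single conjugacy class if and only if G is sharply 2-transitive (2-transitive, and no non-identity element fixes two points). -/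
theorem result {G : Type*} [Group G] [Finite G] {Ω : Type*} [Fintype Ω] [MulAction G Ω] [FaithfulSMul G Ω] (hΩ : 2 ≤ Fintype.card Ω) (hprim : MulAction.IsPreprimitive G Ω) (hnas : ¬ ∃ T : Subgroup G, T.Normal ∧ IsSimpleGroup T ∧ ¬ IsMulCommutative T ∧ Subgroup.centralizer (T : Set G) = ⊥) :
    Nat.card {c : ConjClasses G // ∃ g : G, ConjClasses.mk g = c ∧ ∀ ω : Ω, g • ω ≠ ω} = 1 ↔ (MulAction.IsMultiplyPretransitive G Ω 2 ∧ ∀ g : G, g ≠ 1 → ∀ a b : Ω, a ≠ b → g • a = a → g • b ≠ b) := by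
  open Subgroup MulAction in
  have hnt : Nontrivial Ω := Fintype.one_lt_card_iff_nontrivial.mp hΩ
  obtain ⟨α⟩ : Nonempty Ω := inferInstance
  have hG := CfsgH6.nontrivial_of_transitive (G := G) (Ω := Ω) inferInstance
  have hq := CfsgH6.isPretransitive_of_normal_of_preprimitive hprim
  constructor
  swap
  · rintro ⟨h2, h3⟩
    rw [is_two_pretransitive_iff] at h2
    obtain ⟨K, hK, -⟩ := CfsgH3.frobenius_perm (⊤ : Subgroup G) (Set.univ : Set Ω)
      (fun a _ b _ => by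
        obtain ⟨g, hg⟩ := hprim.exists_smul_eq a b
        exact ⟨g, trivial, hg⟩) (by simp)
      (fun g _ a _ b _ hab h1 h2 => by
        by_contra h
        exact h3 g h a b hab h1 h2)
    obtain ⟨hconj, -⟩ := CfsgH3.regular_normal_elementary ⊤ K (Ω := Ω)
      (fun h h' => by obtain ⟨g, hg⟩ := h2 h h'; exact ⟨g, trivial, hg⟩)
      (fun g _ m hm => by
        rw [hK] at hm ⊢
        refine ⟨trivial, hm.2.imp (by rintro rfl; simp) fun h a _ ha => ?_⟩
        rw [mul_smul, mul_smul, smul_eq_iff_eq_inv_smul] at ha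
        exact h _ trivial ha) α
      (fun m hm h => ((hK m).1 hm).2.resolve_right fun h' => h' α trivial h)
    obtain ⟨d, hd⟩ := CfsgH6.exists_derangement (G := G) (Ω := Ω) inferInstance
    rw [Nat.card_eq_one_iff_unique]
    refine ⟨⟨?_⟩, ⟨⟨_, d, rfl, hd⟩⟩⟩
    rintro ⟨_, a, rfl, ha⟩ ⟨_, b, rfl, hb⟩
    obtain ⟨g, -, -, e⟩ := hconj a ((hK a).2 ⟨trivial, Or.inr fun x _ => ha x⟩) b
      ((hK b).2 ⟨trivial, Or.inr fun x _ => hb x⟩) (by rintro rfl; exact ha α (one_smul _ _))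
      (by rintro rfl; exact hb α (one_smul _ _))
    exact Subtype.ext (ConjClasses.mk_eq_mk_iff_isConj.mpr (isConj_iff.2 ⟨g, e⟩))
  intro hκ
  have h3 : ∀ a b : G, (∀ ω : Ω, a • ω ≠ ω) → (∀ ω : Ω, b • ω ≠ ω) → IsConj a b := by
    intro a b ha hb
    rw [Nat.card_eq_one_iff_unique] at hκ
    rw [← ConjClasses.mk_eq_mk_iff_isConj]
    exact congrArg Subtype.val (hκ.1.elim ⟨_, a, rfl, ha⟩ ⟨_, b, rfl, hb⟩)
  have hord : ∀ a b : G, IsConj a b → orderOf a = orderOf b := by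
    intro a b h
    obtain ⟨g, rfl⟩ := isConj_iff.mp h
    exact ((MulAut.conj g).orderOf_eq a).symm
  obtain ⟨N, hN1, hN2, hNmin⟩ := CfsgH6.exists_minimal_normal (G := G)
  by_cases hab : IsMulCommutative N
  · have hNt := hq N hN1 hN2
    have hcomm : ∀ a ∈ N, ∀ b ∈ N, a * b = b * a := fun a ha b hb =>
      congrArg Subtype.val (hab.is_comm.comm ⟨a, ha⟩ ⟨b, hb⟩)
    have hreg : ∀ n ∈ N, ∀ ω : Ω, n • ω = ω → n = 1 := fun n hn ω h =>
      CfsgH6.eq_one_of_centralizes_of_transitive N hNt (fun m hm => hcomm m hm n hn) h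
    have hsurj : ∀ ω : Ω, ∃ n ∈ N, n • α = ω := fun ω => by
      obtain ⟨n, hn⟩ := hNt.exists_smul_eq α ω
      exact ⟨n, n.2, hn⟩
    have hconj : ∀ a ∈ N, ∀ b ∈ N, a ≠ 1 → b ≠ 1 → ∃ h : G, h • α = α ∧ h • a • α = b • α := by
      intro a ha b hb ha1 hb1
      obtain ⟨g, rfl⟩ := isConj_iff.1 (h3 a b (fun ω h => ha1 (hreg a ha ω h))
        (fun ω h => hb1 (hreg b hb ω h)))
      obtain ⟨n, hn, e⟩ := hsurj (g • α)
      refine ⟨n⁻¹ * g, by rw [mul_smul, ← e, inv_smul_smul], ?_⟩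
      have := hcomm n⁻¹ (N.inv_mem hn) _ hb
      calc (n⁻¹ * g) • a • α = (n⁻¹ * (g * a * g⁻¹)) • g • α := by simp [mul_smul]
        _ = _ := by rw [this, mul_smul, ← e, inv_smul_smul]
    constructor
    · rw [is_two_pretransitive_iff]
      intro a b c d hab' hcd
      obtain ⟨n, hn, rfl⟩ := hsurj a
      obtain ⟨m, hm, rfl⟩ := hsurj c
      obtain ⟨x, hx, hx2⟩ := hsurj (n⁻¹ • b)
      obtain ⟨y, hy, hy2⟩ := hsurj (m⁻¹ • d)
      obtain ⟨h, hh, h1⟩ := hconj x hx y hy (by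
        rintro rfl
        rw [one_smul, eq_inv_smul_iff] at hx2
        exact hab' hx2) (by
        rintro rfl
        rw [one_smul, eq_inv_smul_iff] at hy2
        exact hcd hy2)
      refine ⟨m * h * n⁻¹, ?_, ?_⟩
      · rw [mul_smul, mul_smul, inv_smul_smul, hh]
      · rw [mul_smul, mul_smul, ← hx2, h1, hy2, smul_inv_smul]
    · obtain ⟨⟨a, ha⟩, ha1⟩ := Subgroup.ne_bot_iff_exists_ne_one.1 hN2
      have hD : CfsgH6.derSub G Ω ≤ N := by
        rw [CfsgH6.derSub, closure_le]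
        intro d hd
        obtain ⟨g, rfl⟩ := isConj_iff.mp
          (h3 a d (fun ω h => ha1 (Subtype.ext (hreg a ha ω h))) hd)
        exact hN1.conj_mem a ha g
      intro g hg x y hxy h1 h2
      exact hg (hreg g (hD (CfsgH6.mem_derSub_of_fixes_two inferInstance hxy h1 h2)) x h1)
  exfalso
  obtain ⟨T, hT⟩ := CfsgH6.exists_isSimpleFactor N hN1 hN2 hNmin hab
  have hs := hT.simple
  have helt : ∀ q : ℕ, q.Prime → q ∣ Nat.card T → ∃ x ∈ T, orderOf x = q ∧ x ≠ 1 := by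
    intro q hq1 hq3
    have := Fact.mk hq1
    obtain ⟨x, hx⟩ := exists_prime_orderOf_dvd_card' q hq3
    have hx' : orderOf (x : G) = q := by rw [orderOf_coe, hx]
    refine ⟨x, x.2, hx', fun h => ?_⟩
    rw [h, orderOf_one] at hx'; exact hq1.one_lt.ne hx'
  obtain ⟨p, hp1, -, hp3⟩ := CfsgH6.exists_prime_ne_of_simple hT.not_comm 2 Nat.prime_two
  obtain ⟨q, hq1, hq2, hq3⟩ := CfsgH6.exists_prime_ne_of_simple hT.not_comm p hp1
  obtain ⟨x, hx, hxo, hx1⟩ := helt p hp1 hp3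
  obtain ⟨y, hy, hyo, hy1⟩ := helt q hq1 hq3
  rcases hT.semiregular_or_derangements hq (fun h1 h2 => hnas ⟨T, h1, hs, hT.not_comm, h2⟩) with
    h | ⟨⟨g, hg⟩, t, ht, h⟩
  · have := hord _ _ (h3 x y (h x hx hx1) (h y hy hy1))
    omega
  · have hc : ∀ x ∈ T, g * x * g⁻¹ ∈ N ⊓ centralizer (T : Set G) := fun x hx =>
      ⟨hN1.conj_mem _ (hT.le hx) g, fun s hs => (hg x hx s hs).eq.symm⟩
    have ht0 := h 1 (one_mem _)
    rw [mul_one] at ht0
    have ht1 : t ≠ 1 := by rintro rfl; exact ht0 α (one_smul _ _)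
    have hTC : ∀ s ∈ T, s ∈ centralizer (T : Set G) → s = 1 := fun s hs h =>
      hT.eq_one s hs (fun r hr => (h r hr).symm)
    have hdich : ∀ u : G, (∀ s ∈ T, u * s * u⁻¹ ∈ T) ∨
        (∀ s ∈ T, u * s * u⁻¹ ∈ centralizer (T : Set G)) :=
      fun u => (hT.dich u).imp id (fun h s hs r hr => (h s hs r hr).eq.symm)
    obtain ⟨u, hu⟩ := isConj_iff.mp (h3 _ _ ht0 (h _ (hc x hx)))
    rcases hdich u with h1 | h1
    · have : g * x * g⁻¹ ∈ T := by
        have := T.mul_mem (T.inv_mem ht) (h1 t ht)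
        rwa [hu, inv_mul_cancel_left] at this
      exact hx1 (conj_eq_one_iff.mp (hTC _ this (hc x hx).2))
    · have := (centralizer (T : Set G)).mul_mem (h1 t ht) (inv_mem (hc x hx).2)
      rw [hu, mul_inv_cancel_right] at this
      exact ht1 (hTC t ht this)

end Cfsg.Agent.S3501
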