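import Cfsg.Statements.S3520
import Cfsg.Agent.H6.MinNormal
import Cfsg.Agent.L.Char5

set_option autoImplicit false
open Cfsg

namespace Cfsg.Agent.S3520

/-- Let a finite group G act faithfully and primitively on a finite set Ω with at least two points, suppose G is not almost simple (no non-abelian simple normal subgroup with trivial centralizer), and suppose the derangements of G form exactly two conjugacy classes. Then either Ω has 3 points and G has order 3; or G has a non-trivial abelian normal subgroup N acting regularly, every non-identity element of G fixes at most one point (so, when n > 3, G is a Frobenius group with kernel N), the number n of points is odd and a point stabilizer has order (n − 1)/2; or G is 2-transitive with a non-trivial abelian regular normal subgroup and some non-identity element fixes at least two points (a non-Frobenius 2-transitive affine group). -/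
theorem result {G : Type*} [Group G] [Finite G] {Ω : Type*} [Fintype Ω] [MulAction G Ω] [FaithfulSMul G Ω] (hΩ : 2 ≤ Fintype.card Ω) (hprim : MulAction.IsPreprimitive G Ω) (hnas : ¬ ∃ T : Subgroup G, T.Normal ∧ IsSimpleGroup T ∧ ¬ IsMulCommutative T ∧ Subgroup.centralizer (T : Set G) = ⊥)
    (hκ : Nat.card {c : ConjClasses G // ∃ g : G, ConjClasses.mk g = c ∧ ∀ ω : Ω, g • ω ≠ ω} = 2) (α : Ω) :
    (Fintype.card Ω = 3 ∧ Nat.card G = 3) ∨
    ((∃ N : Subgroup G, N.Normal ∧ N ≠ ⊥ ∧ IsMulCommutative N ∧ ∀ ω : Ω, MulAction.stabilizer N ω = ⊥) ∧ (∀ g : G, g ≠ 1 → Nat.card (MulAction.fixedBy Ω g) ≤ 1) ∧ ¬ 2 ∣ Fintype.card Ω ∧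
        2 * Nat.card (MulAction.stabilizer G α) = Fintype.card Ω - 1) ∨
    ((∃ N : Subgroup G, N.Normal ∧ N ≠ ⊥ ∧ IsMulCommutative N ∧ ∀ ω : Ω, MulAction.stabilizer N ω = ⊥) ∧ MulAction.IsMultiplyPretransitive G Ω 2 ∧ ∃ g : G, g ≠ 1 ∧ 2 ≤ Nat.card (MulAction.fixedBy Ω g)) := by
  open Subgroup MulAction in
  have hnt : Nontrivial Ω := Fintype.one_lt_card_iff_nontrivial.mp hΩ
  have hG := CfsgH6.nontrivial_of_transitive (G := G) (Ω := Ω) inferInstance
  have hq := CfsgH6.isPretransitive_of_normal_of_preprimitive hprim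
  have h3 : ∀ a b c : G, (∀ ω : Ω, a • ω ≠ ω) → (∀ ω : Ω, b • ω ≠ ω) → (∀ ω : Ω, c • ω ≠ ω) →
      IsConj a b ∨ IsConj a c ∨ IsConj b c := by
    intro a b c ha hb hc
    obtain ⟨x, y, -, hxy⟩ := Nat.card_eq_two_iff.mp hκ
    have h1 : ∀ z, z = x ∨ z = y := fun z => by
      have : z ∈ ({x, y} : Set _) := hxy ▸ Set.mem_univ z
      simpa using this
    simp only [← ConjClasses.mk_eq_mk_iff_isConj]
    rcases h1 ⟨_, a, rfl, ha⟩ with e1 | e1 <;> rcases h1 ⟨_, b, rfl, hb⟩ with e2 | e2 <;>
      rcases h1 ⟨_, c, rfl, hc⟩ with e3 | e3 <;>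
      first
        | exact Or.inl (congrArg Subtype.val (e1.trans e2.symm))
        | exact Or.inr (Or.inl (congrArg Subtype.val (e1.trans e3.symm)))
        | exact Or.inr (Or.inr (congrArg Subtype.val (e2.trans e3.symm)))
  have h2 : ∃ a b : G, (∀ ω : Ω, a • ω ≠ ω) ∧ (∀ ω : Ω, b • ω ≠ ω) ∧ ¬ IsConj a b := by
    obtain ⟨⟨_, a, rfl, ha⟩, ⟨_, b, rfl, hb⟩, hne, -⟩ := Nat.card_eq_two_iff.mp hκ
    exact ⟨a, b, ha, hb, fun h => hne (Subtype.ext (ConjClasses.mk_eq_mk_iff_isConj.mpr h))⟩
  have hord : ∀ a b : G, IsConj a b → orderOf a = orderOf b := by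
    intro a b h
    obtain ⟨g, rfl⟩ := isConj_iff.mp h
    exact ((MulAut.conj g).orderOf_eq a).symm
  obtain ⟨N, hN1, hN2, hNmin⟩ := CfsgH6.exists_minimal_normal (G := G)
  by_cases hab : IsMulCommutative N
  · have hNt := hq N hN1 hN2
    have hcomm : ∀ a ∈ N, ∀ b ∈ N, a * b = b * a := fun a ha b hb =>
      congrArg Subtype.val (hab.is_comm.comm ⟨a, ha⟩ ⟨b, hb⟩)
    have hreg : ∀ n ∈ N, ∀ ω : Ω, n • ω = ω → n = 1 := fun n hn ω h =>
      CfsgH6.eq_one_of_centralizes_of_transitive N hNt (fun m hm => hcomm m hm n hn) h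
    have haff : ∃ N : Subgroup G, N.Normal ∧ N ≠ ⊥ ∧ IsMulCommutative N ∧ ∀ ω : Ω, stabilizer N ω = ⊥ := by
      refine ⟨N, hN1, hN2, hab, fun ω => ?_⟩
      rw [eq_bot_iff]
      intro n hn
      rw [mem_bot]
      exact Subtype.ext (hreg n n.2 ω hn)
    have hinj : ∀ a ∈ N, ∀ b ∈ N, a • α = b • α → a = b := by
      intro a ha b hb h
      have := hreg (b⁻¹ * a) (N.mul_mem (N.inv_mem hb) ha) α (by rw [mul_smul, h, inv_smul_smul])
      rw [inv_mul_eq_one] at this
      exact this.symm
    have hsurj : ∀ ω : Ω, ∃ n ∈ N, n • α = ω := fun ω => by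
      obtain ⟨n, hn⟩ := hNt.exists_smul_eq α ω
      exact ⟨n, n.2, hn⟩
    have hdec : ∀ g : G, ∃ n ∈ N, ∃ h : G, h • α = α ∧ g = n * h := by
      intro g
      obtain ⟨n, hn, h⟩ := hsurj (g • α)
      exact ⟨n, hn, n⁻¹ * g, by rw [mul_smul, ← h, inv_smul_smul], by group⟩
    have hconj : ∀ a ∈ N, ∀ b ∈ N, IsConj a b ↔ ∃ h : G, h • α = α ∧ h • a • α = b • α := by
      intro a ha b hb
      rw [isConj_iff]
      constructor
      · rintro ⟨g, rfl⟩
        obtain ⟨n, hn, h, hh, rfl⟩ := hdec g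
        refine ⟨h, hh, ?_⟩
        have : n * h * a * (n * h)⁻¹ = h * a * h⁻¹ := by
          have := hcomm n hn _ (hN1.conj_mem a ha h)
          calc n * h * a * (n * h)⁻¹ = n * (h * a * h⁻¹) * n⁻¹ := by group
            _ = h * a * h⁻¹ := by rw [this]; group
        rw [this, mul_smul, mul_smul, (show h⁻¹ • α = α from inv_smul_eq_iff.mpr hh.symm)]
      · rintro ⟨h, hh, h1⟩
        refine ⟨h, hinj _ (hN1.conj_mem a ha h) _ hb ?_⟩
        rw [mul_smul, mul_smul, (show h⁻¹ • α = α from inv_smul_eq_iff.mpr hh.symm), h1]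
    by_cases hall : ∀ a ∈ N, ∀ b ∈ N, a ≠ 1 → b ≠ 1 → IsConj a b
    · right; right
      refine ⟨haff, ?_, ?_⟩
      · rw [is_two_pretransitive_iff]
        intro a b c d hab' hcd
        obtain ⟨n, hn, rfl⟩ := hsurj a
        obtain ⟨m, hm, rfl⟩ := hsurj c
        obtain ⟨x, hx, hx2⟩ := hsurj (n⁻¹ • b)
        obtain ⟨y, hy, hy2⟩ := hsurj (m⁻¹ • d)
        obtain ⟨h, hh, h1⟩ := (hconj x hx y hy).mp (hall x hx y hy (by
          rintro rfl
          rw [one_smul, eq_inv_smul_iff] at hx2
          exact hab' hx2) (by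
          rintro rfl
          rw [one_smul, eq_inv_smul_iff] at hy2
          exact hcd hy2))
        refine ⟨m * h * n⁻¹, ?_, ?_⟩
        · rw [mul_smul, mul_smul, inv_smul_smul, hh]
        · rw [mul_smul, mul_smul, ← hx2, h1, hy2, smul_inv_smul]
      · by_contra hcon
        push Not at hcon
        have hder : ∀ d : G, (∀ ω : Ω, d • ω ≠ ω) → d ∈ N := by
          intro d hd
          obtain ⟨n, hn, h, hh, rfl⟩ := hdec d
          by_cases h1 : h = 1
          · rw [h1, mul_one]; exact hn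
          exfalso
          let f : N → N := fun m => ⟨m * (h * (m : G)⁻¹ * h⁻¹), N.mul_mem m.2 (hN1.conj_mem _ (N.inv_mem m.2) h)⟩
          have hf : Function.Injective f := by
            intro a b hab'
            have e1 : (a : G) * (h * (a : G)⁻¹ * h⁻¹) = b * (h * (b : G)⁻¹ * h⁻¹) := congrArg Subtype.val hab'
            have e2 : h • ((b : G)⁻¹ * a) • α = ((b : G)⁻¹ * a) • α := by
              have : h * ((b : G)⁻¹ * a) = ((b : G)⁻¹ * a) * h := by
                calc h * ((b : G)⁻¹ * a) = (b : G)⁻¹ * (b * (h * (b : G)⁻¹ * h⁻¹)) * h * a := by group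
                  _ = ((b : G)⁻¹ * a) * h := by rw [← e1]; group
              rw [← mul_smul, this, mul_smul, hh]
            have hlt := hcon h h1
            have : Subsingleton (fixedBy Ω h) := Finite.card_le_one_iff_subsingleton.mp (by omega)
            have e3 := congrArg Subtype.val (Subsingleton.elim (⟨_, e2⟩ : fixedBy Ω h) ⟨α, hh⟩)
            have e4 := hreg _ (N.mul_mem (N.inv_mem b.2) a.2) α e3
            rw [inv_mul_eq_one] at e4
            exact Subtype.ext e4.symm
          obtain ⟨m, hm⟩ := Finite.surjective_of_injective hf ⟨n, hn⟩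
          have e1 : (m : G) * (h * (m : G)⁻¹ * h⁻¹) = n := congrArg Subtype.val hm
          apply hd ((m : G) • α)
          rw [← e1, ← mul_smul]
          have : (m : G) * (h * (m : G)⁻¹ * h⁻¹) * h * m = m * h := by group
          rw [this, mul_smul, hh]
        obtain ⟨a, b, ha, hb, hne⟩ := h2
        exact hne (hall a (hder a ha) b (hder b hb) (by rintro rfl; exact ha α (one_smul _ _))
          (by rintro rfl; exact hb α (one_smul _ _)))
    · right; left
      push Not at hall
      obtain ⟨a, ha, b, hb, ha1, hb1, hne⟩ := hall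
      have hcl : ∀ d : G, (∀ ω : Ω, d • ω ≠ ω) → IsConj a d ∨ IsConj b d := fun d hd =>
        (h3 a b d (fun ω h => ha1 (hreg a ha ω h)) (fun ω h => hb1 (hreg b hb ω h)) hd).resolve_left hne
      have hD : CfsgH6.derSub G Ω ≤ N := by
        rw [CfsgH6.derSub, closure_le]
        intro d hd
        rcases hcl d hd with h | h <;> obtain ⟨g, rfl⟩ := isConj_iff.mp h
        · exact hN1.conj_mem a ha g
        · exact hN1.conj_mem b hb g
      have hfix : ∀ g : G, g ≠ 1 → Nat.card (fixedBy Ω g) ≤ 1 := by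
        intro g hg
        by_cases h : g ∈ N
        · have : IsEmpty (fixedBy Ω g) := ⟨fun x => hg (hreg g h x.1 x.2)⟩
          simp
        · exact (CfsgH6.card_fixedBy_of_notMem_derSub inferInstance (fun h' => h (hD h'))).le
      have horb : ∀ x ∈ N, x ≠ 1 → (orbit (stabilizer G α) (x • α)).ncard = Nat.card (stabilizer G α) := by
        intro x hx hx1
        rw [← index_stabilizer]
        have : stabilizer (stabilizer G α) (x • α) = ⊥ := by
          rw [eq_bot_iff]
          intro h hh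
          rw [mem_bot]
          by_contra h1
          have : Subsingleton (fixedBy Ω (h : G)) :=
            Finite.card_le_one_iff_subsingleton.mp (hfix h (fun e => h1 (Subtype.ext e)))
          have e3 := congrArg Subtype.val (Subsingleton.elim (⟨_, hh⟩ : fixedBy Ω (h : G)) ⟨α, h.2⟩)
          exact hx1 (hreg x hx α e3)
        rw [this, index_bot]
      have hunion : ({α}ᶜ : Set Ω) = orbit (stabilizer G α) (a • α) ∪ orbit (stabilizer G α) (b • α) := by
        ext ω
        constructor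
        · intro hω
          obtain ⟨n, hn, rfl⟩ := hsurj ω
          have hn1 : n ≠ 1 := by rintro rfl; exact hω (one_smul _ _)
          rcases hcl n (fun ω h => hn1 (hreg n hn ω h)) with h | h
          · obtain ⟨h, hh, h1⟩ := (hconj a ha n hn).mp h
            exact Or.inl ⟨⟨h, hh⟩, h1⟩
          · obtain ⟨h, hh, h1⟩ := (hconj b hb n hn).mp h
            exact Or.inr ⟨⟨h, hh⟩, h1⟩
        · rintro (⟨h, rfl⟩ | ⟨h, rfl⟩) h1
          · exact ha1 (hreg a ha α ((smul_left_cancel_iff (h : G)).mp (h1.trans h.2.symm)))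
          · exact hb1 (hreg b hb α ((smul_left_cancel_iff (h : G)).mp (h1.trans h.2.symm)))
      have hdisj : Disjoint (orbit (stabilizer G α) (a • α)) (orbit (stabilizer G α) (b • α)) := by
        rcases orbit.eq_or_disjoint (G := stabilizer G α) (a • α) (b • α) with h | h
        · exfalso
          obtain ⟨k, hk⟩ : b • α ∈ orbit (stabilizer G α) (a • α) := h ▸ mem_orbit_self _
          exact hne ((hconj a ha b hb).mpr ⟨k, k.2, hk⟩)
        · exact h
      have hcard := congrArg Set.ncard hunion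
      rw [Set.ncard_union_eq hdisj, horb a ha ha1, horb b hb hb1, Set.ncard_compl, Set.ncard_singleton,
        Nat.card_eq_fintype_card] at hcard
      exact ⟨haff, hfix, by omega, by omega⟩
  exfalso
  obtain ⟨T, hT⟩ := CfsgH6.exists_isSimpleFactor N hN1 hN2 hNmin hab
  have hs := hT.simple
  have helt : ∀ q : ℕ, q.Prime → q ∣ Nat.card T → ∃ x ∈ T, orderOf x = q ∧ x ≠ 1 := by
    intro q hq1 hq3
    have := Fact.mk hq1
    obtain ⟨x, hx⟩ := exists_prime_orderOf_dvd_card' q hq3
    have hx' : orderOf (x : G) = q := by rw [orderOf_coe, hx]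
    refine ⟨x, x.2, hx', fun h => ?_⟩
    rw [h, orderOf_one] at hx'; exact hq1.one_lt.ne hx'
  obtain ⟨p, hp1, -, hp3⟩ := CfsgH6.exists_prime_ne_of_simple hT.not_comm 2 Nat.prime_two
  obtain ⟨q, hq1, hq2, hq3⟩ := CfsgH6.exists_prime_ne_of_simple hT.not_comm p hp1
  obtain ⟨x, hx, hxo, hx1⟩ := helt p hp1 hp3
  obtain ⟨y, hy, hyo, hy1⟩ := helt q hq1 hq3
  rcases hT.semiregular_or_derangements hq (fun h1 h2 => hnas ⟨T, h1, hs, hT.not_comm, h2⟩) with
    h | ⟨⟨g, hg⟩, t, ht, h⟩
  · obtain ⟨r, hr1, hr2, hr3⟩ : ∃ r : ℕ, r.Prime ∧ r ∣ Nat.card T ∧ ¬ (r = p ∨ r = q) := by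
      by_contra hcon
      push Not at hcon
      have := CfsgL.burnside_pq (G := T) hp1 hq1 hcon
      exact hT.not_comm ⟨⟨IsSimpleGroup.comm_iff_isSolvable.mpr this⟩⟩
    obtain ⟨z, hz, hzo, hz1⟩ := helt r hr1 hr2
    rcases h3 x y z (h x hx hx1) (h y hy hy1) (h z hz hz1) with e | e | e <;> have := hord _ _ e <;> omega
  · have hc : ∀ x ∈ T, g * x * g⁻¹ ∈ N ⊓ centralizer (T : Set G) := fun x hx =>
      ⟨hN1.conj_mem _ (hT.le hx) g, fun s hs => (hg x hx s hs).eq.symm⟩
    have ht0 := h 1 (one_mem _)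
    rw [mul_one] at ht0
    have ht1 : t ≠ 1 := by rintro rfl; exact ht0 α (one_smul _ _)
    have hTC : ∀ s ∈ T, s ∈ centralizer (T : Set G) → s = 1 := fun s hs h =>
      hT.eq_one s hs (fun r hr => (h r hr).symm)
    have hdich : ∀ u : G, (∀ s ∈ T, u * s * u⁻¹ ∈ T) ∨ (∀ s ∈ T, u * s * u⁻¹ ∈ centralizer (T : Set G)) :=
      fun u => (hT.dich u).imp id (fun h s hs r hr => (h s hs r hr).eq.symm)
    have c1 : ∀ x ∈ T, x ≠ 1 → ¬ IsConj t (t * (g * x * g⁻¹)) := by
      intro x hx hx1 hcj
      obtain ⟨u, hu⟩ := isConj_iff.mp hcj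
      rcases hdich u with h1 | h1
      · have : g * x * g⁻¹ ∈ T := by
          have := T.mul_mem (T.inv_mem ht) (h1 t ht)
          rwa [hu, inv_mul_cancel_left] at this
        exact hx1 (conj_eq_one_iff.mp (hTC _ this (hc x hx).2))
      · have := (centralizer (T : Set G)).mul_mem (h1 t ht) (inv_mem (hc x hx).2)
        rw [hu, mul_inv_cancel_right] at this
        exact ht1 (hTC t ht this)
    rcases h3 _ _ _ ht0 (h _ (hc x hx)) (h _ (hc y hy)) with e | e | e
    · exact c1 x hx hx1 e
    · exact c1 y hy hy1 e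
    · obtain ⟨u, hu⟩ := isConj_iff.mp e
      have hu' : (u * t * u⁻¹) * ((u * g) * x * (u * g)⁻¹) = t * (g * y * g⁻¹) := by
        rw [← hu]; group
      have o1 : orderOf ((u * g) * x * (u * g)⁻¹) = p := by rw [← hxo]; exact (MulAut.conj _).orderOf_eq x
      have o2 : orderOf (g * y * g⁻¹) = q := by rw [← hyo]; exact (MulAut.conj _).orderOf_eq y
      have o3 : orderOf (u * t * u⁻¹) = orderOf t := (MulAut.conj _).orderOf_eq t
      have huniq : ∀ s ∈ T, ∀ c ∈ centralizer (T : Set G), s * c = t * (g * y * g⁻¹) →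
          s = t ∧ c = g * y * g⁻¹ := by
        intro s hs c hc' e
        have e1 : t⁻¹ * s = (g * y * g⁻¹) * c⁻¹ := by
          rw [inv_mul_eq_iff_eq_mul, ← mul_assoc, ← e, mul_inv_cancel_right]
        have e2 := hTC _ (T.mul_mem (T.inv_mem ht) hs) (e1 ▸ mul_mem (hc y hy).2 (inv_mem hc'))
        rw [e2, eq_comm, mul_inv_eq_one] at e1
        rw [inv_mul_eq_one] at e2
        exact ⟨e2.symm, e1.symm⟩
      rcases hdich u with h1 | h1
      · have hun : u ∈ normalizer (T : Set G) := mem_normalizer_fintype h1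
        have : (u * g) * x * (u * g)⁻¹ ∈ centralizer (T : Set G) := by
          intro s hs
          have e1 := (hc x hx).2 _ ((mem_normalizer_iff''.mp hun s).mp hs)
          calc s * (u * g * x * (u * g)⁻¹) = u * (u⁻¹ * s * u * (g * x * g⁻¹)) * u⁻¹ := by group
            _ = u * g * x * (u * g)⁻¹ * s := by rw [e1]; group
        have := (huniq _ (h1 t ht) _ this hu').2
        rw [this] at o1
        omega
      · rcases hdich (u * g) with h4 | h4
        · rw [← h1 t ht _ (h4 x hx)] at hu'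
          obtain ⟨e1, e2⟩ := huniq _ (h4 x hx) _ (h1 t ht) hu'
          rw [e1] at o1
          rw [e2] at o3
          omega
        · have := (centralizer (T : Set G)).mul_mem (mul_mem (h1 t ht) (h4 x hx)) (inv_mem (hc y hy).2)
          rw [hu', mul_inv_cancel_right] at this
          exact ht1 (hTC t ht this)

end Cfsg.Agent.S3520
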