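import Cfsg.Statements.S3554
-- import your own Cfsg.Agent.* helpers here

set_option autoImplicit false
open Cfsg

namespace Cfsg.Agent.S3554

/-- Let G act faithfully and transitively on a finite set and suppose G has a non-trivial cyclic normal subgroup. Then some element of G of prime order fixes no point. -/
theorem result {G Ω : Type*} [Group G] [Finite G] [MulAction G Ω] [FaithfulSMul G Ω] [Finite Ω]
    (htrans : MulAction.IsPretransitive G Ω) (C : Subgroup G) (hC : C.Normal) (hC1 : C ≠ ⊥) (hcyc : IsCyclic ↥C) :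
    ∃ g : G, (orderOf g).Prime ∧ ∀ ω : Ω, g • ω ≠ ω := by
  obtain ⟨c, hc⟩ := hcyc.exists_generator
  have hcard : Nat.card C ≠ 1 := by
    intro h; exact hC1 (Subgroup.card_eq_one.mp h)
  obtain ⟨p, hp, hpd⟩ := Nat.exists_prime_and_dvd hcard
  have := Fact.mk hp
  obtain ⟨x, hx⟩ := exists_prime_orderOf_dvd_card' p hpd
  refine ⟨x, by rw [Subgroup.orderOf_coe, hx]; exact hp, fun ω hω => ?_⟩
  -- every conjugate of x is a power of x
  have hconj : ∀ g : G, g * x * g⁻¹ ∈ Subgroup.zpowers (x : G) := by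
    intro g
    obtain ⟨k, hk⟩ := Subgroup.mem_zpowers_iff.mp (hc x)
    obtain ⟨j, hj⟩ := Subgroup.mem_zpowers_iff.mp (hc ⟨g * c * g⁻¹, hC.conj_mem _ c.2 g⟩)
    have hk' : (c : G) ^ k = x := by simpa using congrArg Subtype.val hk
    have hj' : (c : G) ^ j = g * c * g⁻¹ := by simpa using congrArg Subtype.val hj
    refine Subgroup.mem_zpowers_iff.mpr ⟨j, ?_⟩
    rw [← hk', ← conj_zpow, ← hj', ← zpow_mul, ← zpow_mul, mul_comm]
  have hall : ∀ a : Ω, (x : G) • a = a := by
    intro a
    obtain ⟨g, rfl⟩ := htrans.exists_smul_eq ω a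
    have h1 : g⁻¹ * x * g⁻¹⁻¹ ∈ MulAction.stabilizer G ω := by
      have : Subgroup.zpowers (x : G) ≤ MulAction.stabilizer G ω := by
        rw [Subgroup.zpowers_le]; exact hω
      exact this (hconj g⁻¹)
    rw [MulAction.mem_stabilizer_iff, inv_inv, mul_smul, mul_smul, inv_smul_eq_iff] at h1
    exact h1
  have : (x : G) = 1 := FaithfulSMul.eq_of_smul_eq_smul (α := Ω) (fun a => by rw [hall, one_smul])
  have hx1 : x = 1 := Subtype.ext this
  rw [hx1, orderOf_one] at hx
  exact hp.one_lt.ne hx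

end Cfsg.Agent.S3554
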