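import Cfsg.Statements.S3555
import Cfsg.Agent.H3.FC
import Cfsg.Agent.H6.Derang
import Cfsg.Agent.H4.Prim

set_option autoImplicit false
open Cfsg

namespace Cfsg.Agent.S3555

/-- Let G act faithfully and transitively on a finite set and suppose every element of G fixing no point is an involution. Then either G is an elementary abelian 2-group, or G is a Frobenius group whose Frobenius kernel is an elementary abelian 2-group: G has a Frobenius complement H, and the elements lying in no conjugate of H, together with the identity, pairwise commute and square to the identity. -/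
theorem result {G Ω : Type*} [Group G] [Finite G] [MulAction G Ω] [FaithfulSMul G Ω] [Finite Ω]
    (htrans : MulAction.IsPretransitive G Ω) (hinv : ∀ g : G, (∀ ω : Ω, g • ω ≠ ω) → orderOf g = 2) :
    (IsMulCommutative G ∧ ∀ g : G, g ^ 2 = 1) ∨
    (∃ H : Subgroup G, Cfsg.IsFrobeniusComplement H ∧
      (∀ x ∈ Cfsg.frobeniusKernel H, x ^ 2 = 1) ∧
      ∀ x ∈ Cfsg.frobeniusKernel H, ∀ y ∈ Cfsg.frobeniusKernel H, x * y = y * x) := by
  classical
  have := Fintype.ofFinite G
  have := Fintype.ofFinite Ω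
  rcases isEmpty_or_nonempty Ω with hΩ | ⟨⟨a⟩⟩
  · have := hinv 1 (fun ω => (hΩ.false ω).elim)
    simp at this
  have : Nonempty Ω := ⟨a⟩
  let Fx : G → Finset Ω := fun g => Finset.univ.filter fun x => g • x = x
  let D : Finset G := Finset.univ.filter fun g => ∀ x : Ω, g • x ≠ x
  have hA : ∑ g : G, (Fx g).card = Fintype.card G := by
    have := CfsgH6.burnside_nat (G := G) (Ω := Ω)
    rw [CfsgH6.card_orbit_quotient_eq_one htrans, one_mul, Nat.card_eq_fintype_card] at this
    rw [← this]
    refine Finset.sum_congr rfl fun g _ => ?_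
    rw [Nat.card_eq_fintype_card, Fintype.card_subtype]
    rfl
  have hsq : ∀ s ∈ D, s * s = 1 := fun s hs => by
    rw [← pow_two, ← hinv s (Finset.mem_filter.1 hs).2, pow_orderOf_eq_one]
  have hC : D.card * Fintype.card Ω ≤ ∑ g : G, (Fx g).offDiag.card := by
    rw [← Finset.card_sigma, ← Finset.card_univ, ← Finset.card_product]
    have hex : ∀ x y : Ω, ∃ s : G, (∃ s ∈ D, s • x = y) → s ∈ D ∧ s • x = y := by
      intro x y
      by_cases h : ∃ s ∈ D, s • x = y
      · exact ⟨h.choose, fun _ => h.choose_spec⟩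
      · exact ⟨1, fun h' => absurd h' h⟩
    choose σ hσ using hex
    refine Finset.card_le_card_of_injOn
      (fun p : G × Ω => (⟨σ p.2 (p.1 • p.2) * p.1, (p.2, p.1 • p.2)⟩ : Σ _ : G, Ω × Ω)) ?_ ?_
    · rintro ⟨s, x⟩ hp
      have hs : s ∈ D := (Finset.mem_product.1 hp).1
      obtain ⟨h1, h2⟩ := hσ x (s • x) ⟨s, hs, rfl⟩
      have h3 : σ x (s • x) • s • x = x := by
        conv_lhs => rw [← h2, ← mul_smul, h2, hsq _ h1, one_smul]
      have h4 : s • s • x = x := by rw [← mul_smul, hsq _ hs, one_smul]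
      simp only [Finset.coe_sigma, Set.mem_sigma_iff, Finset.coe_univ, Set.mem_univ, true_and,
        Finset.mem_coe, Finset.mem_offDiag, Fx, Finset.mem_filter, Finset.mem_univ, mul_smul, h3,
        h4, h2]
      exact ((Finset.mem_filter.1 hs).2 x).symm
    · rintro ⟨s, x⟩ - ⟨t, y⟩ - h
      simp only [Sigma.mk.injEq, heq_eq_eq, Prod.mk.injEq] at h
      obtain ⟨h1, rfl, h2⟩ := h
      rw [h2] at h1
      rw [mul_left_cancel h1]
  have hle : ∀ g, (Fx g).card ≤ Fintype.card Ω := fun g => Finset.card_le_univ _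
  have hD : ∀ g, g ∈ D ↔ (Fx g).card = 0 := fun g => by
    simp [D, Fx, Finset.filter_eq_empty_iff]
  let w : G → ℤ := fun g => if g ∈ D then 0 else
    (((Fx g).card : ℤ) - 1) * (Fintype.card Ω - (Fx g).card)
  have hw0 : ∀ g, 0 ≤ w g := fun g => by
    simp only [w]
    split_ifs with h
    · exact le_rfl
    · have := (hD g).not.1 h
      have := hle g
      exact mul_nonneg (by omega) (by omega)
  have hsum : ∑ g, w g = D.card * Fintype.card Ω - ∑ g : G, ((Fx g).offDiag.card : ℤ) := by
    have e1 : ∀ g, w g = (if g ∈ D then (Fintype.card Ω : ℤ) else 0) - (Fx g).offDiag.card +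
        Fintype.card Ω * ((Fx g).card - 1) := by
      intro g
      have : (((Fx g).offDiag.card : ℕ) : ℤ) = (Fx g).card * (Fx g).card - (Fx g).card := by
        rw [Finset.offDiag_card, Nat.cast_sub (Nat.le_mul_self _)]; simp
      rw [this]
      simp only [w]
      split_ifs with h
      · rw [(hD g).1 h]; simp
      · ring
    simp only [e1, Finset.sum_add_distrib, Finset.sum_sub_distrib, ← Finset.mul_sum]
    rw [← Nat.cast_sum, ← Nat.cast_sum, hA]
    simp
  have hw : ∀ g, w g = 0 := by
    have h1 : ∑ g, w g = 0 := le_antisymm (by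
      rw [hsum, ← Nat.cast_sum]
      have : ((D.card * Fintype.card Ω : ℕ) : ℤ) ≤ _ := Int.ofNat_le.2 hC
      push_cast at this ⊢
      omega) (Finset.sum_nonneg fun g _ => hw0 g)
    exact fun g => (Finset.sum_eq_zero_iff_of_nonneg fun g _ => hw0 g).1 h1 g (Finset.mem_univ g)
  have hkey : ∀ g : G, ∀ x y : Ω, x ≠ y → g • x = x → g • y = y → g = 1 := by
    intro g x y hxy hx hy
    have h1 : 1 < (Fx g).card := Finset.one_lt_card_iff.2 ⟨x, y, by simp [Fx, hx], by simp [Fx, hy],
      hxy⟩
    have h2 := hw g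
    simp only [w, (hD g).not.2 (by omega), if_false, mul_eq_zero] at h2
    have h3 : (Fx g).card = Fintype.card Ω := by omega
    have h4 := Finset.eq_univ_of_card _ h3
    apply FaithfulSMul.eq_of_smul_eq_smul (α := Ω)
    intro z
    have : z ∈ Fx g := h4 ▸ Finset.mem_univ z
    simpa [Fx] using this
  have hder : ∀ g : G, g = 1 ∨ (∀ x : G, x⁻¹ * g * x ∉ MulAction.stabilizer G a) → g ^ 2 = 1 := by
    rintro g (rfl | hg)
    · simp
    · rw [← hinv g, pow_orderOf_eq_one]
      intro ω hω
      obtain ⟨x, rfl⟩ := htrans.exists_smul_eq a ω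
      apply hg x
      rw [MulAction.mem_stabilizer_iff, mul_smul, mul_smul, hω, inv_smul_smul]
  have hcomm : ∀ K : Subgroup G, (∀ g ∈ K, g ^ 2 = 1) → ∀ x ∈ K, ∀ y ∈ K, x * y = y * x := by
    intro K hK x hx y hy
    have h1 := hK x hx
    have h2 := hK y hy
    have h3 := hK _ (K.mul_mem hx hy)
    rw [pow_two, mul_eq_one_iff_eq_inv] at h1 h2 h3
    rw [h3, mul_inv_rev, ← h1, ← h2]
  by_cases hb : MulAction.stabilizer G a = ⊥
  · left
    have : ∀ g : G, g ^ 2 = 1 := fun g => hder g (by
      by_cases hg : g = 1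
      · exact Or.inl hg
      · refine Or.inr fun x hx => hg ?_
        rw [hb, Subgroup.mem_bot] at hx
        have : g = x * (x⁻¹ * g * x) * x⁻¹ := by group
        rw [this, hx]; simp)
    exact ⟨⟨⟨fun x y => hcomm ⊤ (fun g _ => this g) x trivial y trivial⟩⟩, this⟩
  right
  have hF : IsFrobeniusComplement (MulAction.stabilizer G a) := by
    rw [CfsgH3.isFrobeniusComplement_iff]
    refine ⟨hb, fun h => hb ?_, fun h hh h1 g hg => ?_⟩
    · exact CfsgH4.normal_eq_bot_of_le_stabilizer (Ω := Ω) _ (hN := h ▸ inferInstance) le_rfl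
    · by_contra hga
      rw [MulAction.mem_stabilizer_iff, mul_smul, mul_smul, inv_smul_eq_iff] at hg
      exact h1 (hkey h a (g • a) (fun e => hga e.symm) hh hg)
  obtain ⟨K, hK, -, -⟩ := CfsgL.frobenius_theorem hF
  have h2 : ∀ x ∈ frobeniusKernel (MulAction.stabilizer G a), x ^ 2 = 1 := fun x hx =>
    hder x ((CfsgH3.mem_frobeniusKernel_iff _ x).1 hx)
  refine ⟨_, hF, h2, ?_⟩
  rw [← hK] at h2 ⊢
  exact hcomm K h2

end Cfsg.Agent.S3555
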