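import Cfsg.Statements.S3556
import Cfsg.Agent.H6.MinNormal

set_option autoImplicit false
open Cfsg

namespace Cfsg.Agent.S3556

/-- Let G act faithfully and primitively on a finite set with at least two points, and suppose that for some fixed prime p every element of G fixing no point has order a power of p. Then G is of affine type (it has a regular normal subgroup that is an elementary abelian r-group for some prime r) or almost simple (it has a non-abelian simple normal subgroup with trivial centralizer). -/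
theorem result {G Ω : Type*} [Group G] [Finite G] [MulAction G Ω] [FaithfulSMul G Ω] [Finite Ω]
    (hprim : MulAction.IsPreprimitive G Ω) (hΩ : 2 ≤ Nat.card Ω) (p : ℕ) (hp : p.Prime)
    (hder : ∀ g : G, (∀ ω : Ω, g • ω ≠ ω) → ∃ k : ℕ, orderOf g = p ^ k) :
    (∃ (N : Subgroup G) (r : ℕ), r.Prime ∧ N.Normal ∧ Cfsg.IsElementaryAbelian r N ∧
      MulAction.IsPretransitive N Ω ∧ ∀ a : Ω, MulAction.stabilizer N a = ⊥) ∨
    (∃ T : Subgroup G, T.Normal ∧ IsSimpleGroup ↥T ∧ ¬ IsMulCommutative ↥T ∧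
      Subgroup.centralizer (T : Set G) = ⊥) := by
  open Subgroup MulAction in
  have hnt : Nontrivial Ω := Finite.one_lt_card_iff_nontrivial.mp hΩ
  have hG := CfsgH6.nontrivial_of_transitive (G := G) (Ω := Ω) inferInstance
  have hq := CfsgH6.isPretransitive_of_normal_of_preprimitive hprim
  obtain ⟨N, hN1, hN2, hNmin⟩ := CfsgH6.exists_minimal_normal (G := G)
  by_cases hab : IsMulCommutative N
  · left
    obtain ⟨r, hr, hr2⟩ := CfsgH6.minNormal_exponent_prime N hN1 hN2 hNmin hab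
    refine ⟨N, r, hr, hN1, ⟨hab, hr2⟩, hq N hN1 hN2, fun a => ?_⟩
    rw [eq_bot_iff]
    intro n hn
    rw [mem_bot]
    exact Subtype.ext (CfsgH6.eq_one_of_centralizes_of_transitive N (hq N hN1 hN2)
      (fun m hm => congrArg Subtype.val (hab.is_comm.comm ⟨m, hm⟩ n)) hn)
  right
  obtain ⟨T, hT⟩ := CfsgH6.exists_isSimpleFactor N hN1 hN2 hNmin hab
  by_contra hnas
  have hs := hT.simple
  obtain ⟨q, hq1, hq2, hq3⟩ := CfsgH6.exists_prime_ne_of_simple hT.not_comm p hp
  have := Fact.mk hq1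
  obtain ⟨x, hx⟩ := exists_prime_orderOf_dvd_card' q hq3
  have hx' : orderOf (x : G) = q := by rw [orderOf_coe, hx]
  have hx1 : (x : G) ≠ 1 := by
    intro h; rw [h, orderOf_one] at hx'; exact hq1.one_lt.ne hx'
  rcases hT.semiregular_or_derangements hq (fun h1 h2 => hnas ⟨T, h1, hs, hT.not_comm, h2⟩) with h | ⟨⟨g, hg⟩, t, ht, h⟩
  · obtain ⟨k, hk⟩ := hder x (h x x.2 hx1)
    rw [hx'] at hk
    exact hq2 ((Nat.prime_dvd_prime_iff_eq hq1 hp).mp (hq1.dvd_of_dvd_pow (dvd_of_eq hk)))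
  · have hc : g * x * g⁻¹ ∈ N ⊓ centralizer (T : Set G) :=
      ⟨hN1.conj_mem _ (hT.le x.2) g, fun s hs => (hg x x.2 s hs).eq.symm⟩
    obtain ⟨k, hk⟩ := hder _ (h _ hc)
    have h1 : (t * (g * x * g⁻¹)) ^ p ^ k = 1 := by rw [← hk, pow_orderOf_eq_one]
    rw [(hg x x.2 t ht).symm.mul_pow, mul_eq_one_iff_eq_inv] at h1
    have h2 : t ^ p ^ k = 1 := by
      apply hT.eq_one _ (T.pow_mem ht _)
      intro s hs
      rw [h1]
      exact ((hg x x.2 s hs).pow_left _).inv_left
    rw [h2, eq_comm, inv_eq_one, conj_pow, conj_eq_one_iff, ← orderOf_dvd_iff_pow_eq_one, hx'] at h1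
    exact hq2 ((Nat.prime_dvd_prime_iff_eq hq1 hp).mp (hq1.dvd_of_dvd_pow h1))

end Cfsg.Agent.S3556
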