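import Cfsg.Statements.S3557
import Cfsg.Agent.H6.Derang
import Cfsg.Agent.H6.PGroupAct

set_option autoImplicit false
open Cfsg

namespace Cfsg.Agent.S3557

open MulAction in
theorem main {P Ω : Type*} [Group P] [Finite P] [MulAction P Ω] [FaithfulSMul P Ω] [Finite Ω]
    (p : ℕ) [hp : Fact p.Prime] (hP : IsPGroup p P) (hcard : Nat.card Ω = 2 * p ^ 2)
    (horb : ∀ ω : Ω, p ^ 2 ∣ (stabilizer P ω).index) :
    ∃ σ : Equiv.Perm Ω, (∀ a b : Ω, ∃ g : P, σ a = g • a ∧ σ b = g • b) ∧ σ ^ p = 1 ∧ ∀ a, σ a ≠ a := by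
  classical
  have hp2 : 0 < p ^ 2 := pow_pos hp.out.pos 2
  have hne : Nonempty Ω := by
    apply (Nat.card_pos_iff.mp _).1
    omega
  have hP1 : (⊤ : Subgroup P) ≠ ⊥ := by
    intro h
    obtain ⟨ω⟩ := hne
    have h1 := horb ω
    have h2 : stabilizer P ω = ⊤ := by
      rw [eq_top_iff, h]; exact bot_le
    rw [h2, Subgroup.index_top, Nat.dvd_one] at h1
    have := Nat.one_lt_pow (n := 2) (by norm_num) hp.out.one_lt
    omega
  obtain ⟨z, -, hz, hzc⟩ := CfsgH6.exists_central_orderOf_eq_of_normal hP ⊤ hP1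
  have hzc' : ∀ g : P, g * z = z * g := Subgroup.mem_center_iff.mp hzc
  have hzp : z ^ p = 1 := by rw [← hz, pow_orderOf_eq_one]
  by_cases hfpf : ∀ a : Ω, z • a ≠ a
  · refine ⟨toPerm z, fun a b => ⟨z, rfl, rfl⟩, ?_, hfpf⟩
    change (toPermHom P Ω z) ^ p = 1
    rw [← map_pow, hzp, map_one]
  push Not at hfpf
  obtain ⟨β, hβ⟩ := hfpf
  set F : Set Ω := fixedBy Ω z with hF
  have hFinv : ∀ g : P, ∀ x, g • x ∈ F ↔ x ∈ F := by
    intro g x
    simp only [hF, mem_fixedBy]
    rw [← mul_smul, ← hzc', mul_smul, smul_left_cancel_iff]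
  obtain ⟨α, hα⟩ : ∃ α, α ∉ F := by
    by_contra h
    push Not at h
    have : z = 1 := FaithfulSMul.eq_of_smul_eq_smul (α := Ω) (fun a => by rw [one_smul]; exact h a)
    rw [this, orderOf_one] at hz
    exact hp.out.one_lt.ne hz
  have hβF : β ∈ F := hβ
  have d1 : p ^ 2 ∣ F.ncard := CfsgH6.dvd_ncard_of_dvd_index_stabilizer (G := P) _ F
    (fun g x hx => (hFinv g x).mpr hx) (fun x _ => horb x)
  have d2 : p ^ 2 ∣ Fᶜ.ncard := CfsgH6.dvd_ncard_of_dvd_index_stabilizer (G := P) _ Fᶜ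
    (fun g x hx h => hx ((hFinv g x).mp h)) (fun x _ => horb x)
  have l1 : p ^ 2 ≤ F.ncard := Nat.le_of_dvd ((Set.ncard_pos).mpr ⟨β, hβF⟩) d1
  have l2 : p ^ 2 ≤ Fᶜ.ncard := Nat.le_of_dvd ((Set.ncard_pos).mpr ⟨α, hα⟩) d2
  have hsum := Set.ncard_add_ncard_compl F
  have c1 : F.ncard = p ^ 2 := by omega
  have c2 : Fᶜ.ncard = p ^ 2 := by omega
  have horbit : ∀ (S : Set Ω) (a : Ω), a ∈ S → (∀ g : P, g • a ∈ S) → S.ncard = p ^ 2 → orbit P a = S := by
    intro S a ha hS hc
    refine Set.eq_of_subset_of_ncard_le ?_ ?_ (Set.toFinite _)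
    · rintro _ ⟨g, rfl⟩; exact hS g
    · rw [hc, ← index_stabilizer]
      exact Nat.le_of_dvd (Nat.pos_of_ne_zero Subgroup.index_ne_zero_of_finite) (horb a)
  have o1 : orbit P β = F := horbit F β hβF (fun g => (hFinv g β).mpr hβF) c1
  have o2 : orbit P α = Fᶜ := horbit Fᶜ α hα (fun g h => hα ((hFinv g α).mp h)) c2
  have hzk : ∀ (k : ℤ) (g : P), g * z ^ k = z ^ k * g := fun k g =>
    Subgroup.mem_center_iff.mp (Subgroup.zpow_mem _ hzc k) g
  let M : Subgroup P :=
    { carrier := {x | ∃ k : ℤ, x • α = z ^ k • α}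
      one_mem' := ⟨0, by simp⟩
      mul_mem' := by
        rintro x y ⟨k, hk⟩ ⟨j, hj⟩
        refine ⟨j + k, ?_⟩
        rw [mul_smul, hj, ← mul_smul, hzk, mul_smul, hk, ← mul_smul, zpow_add]
      inv_mem' := by
        rintro x ⟨k, hk⟩
        refine ⟨-k, ?_⟩
        rw [inv_smul_eq_iff, ← mul_smul, hzk, mul_smul, hk, ← mul_smul, ← zpow_add]
        simp }
  have hle : stabilizer P α ≤ M := fun x hx => ⟨0, by simpa using hx⟩
  have hMi : M.index ∣ p := by
    have h1 : M.index ∣ p ^ 2 := by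
      rw [← c2, ← o2, ← index_stabilizer]
      exact Subgroup.index_dvd_of_le hle
    obtain ⟨i, hi, hi2⟩ := (Nat.dvd_prime_pow hp.out).mp h1
    have : i ≠ 2 := by
      rintro rfl
      have h3 := Subgroup.relIndex_mul_index hle
      rw [index_stabilizer, o2, c2, hi2] at h3
      have h4 : (stabilizer P α).relIndex M = 1 := by
        apply Nat.eq_of_mul_eq_mul_right hp2
        rw [h3, one_mul]
      rw [Subgroup.relIndex_eq_one] at h4
      exact hα (h4 (show z ∈ M from ⟨1, by simp⟩))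
    rw [hi2]
    interval_cases i
    · simp
    · simp
    · exact absurd rfl this
  have hMn : M.Normal := CfsgH6.normal_of_index_dvd_prime hP M hMi
  let T : SubMulAction P Ω := ⟨F, fun g {x} hx => (hFinv g x).mpr hx⟩
  obtain ⟨w, hwM, hwo, hwc⟩ := CfsgH6.exists_central_mod_ker hP M (toPermHom P T) (by
    intro h
    have h1 : M ≤ stabilizer P β := by
      intro x hx
      have := h hx
      rw [MonoidHom.mem_ker] at this
      exact congrArg Subtype.val (DFunLike.congr_fun this ⟨β, hβF⟩)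
    have h2 := Subgroup.index_dvd_of_le h1
    have h3 := Nat.le_of_dvd hp.out.pos ((horb β).trans (h2.trans hMi))
    have := hp.out.one_lt
    nlinarith)
  have hwp : ∀ a ∈ F, w ^ p • a = a := by
    intro a ha
    have : toPermHom P T (w ^ p) = 1 := by rw [map_pow, ← hwo, pow_orderOf_eq_one]
    exact congrArg Subtype.val (DFunLike.congr_fun this ⟨a, ha⟩)
  have hwc' : ∀ x : P, ∀ a ∈ F, x • w • a = w • x • a := by
    intro x a ha
    exact congrArg Subtype.val (DFunLike.congr_fun (hwc x) ⟨a, ha⟩)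
  have hwf : ∀ a ∈ F, w • a ≠ a := by
    intro a ha h
    have : toPermHom P T w = 1 := by
      refine Equiv.ext (fun b => Subtype.ext ?_)
      have hb : (b : Ω) ∈ orbit P a := by
        rw [horbit F a ha (fun g => (hFinv g a).mpr ha) c1]; exact b.2
      obtain ⟨x, hx⟩ := hb
      change w • (b : Ω) = b
      rw [← hx]
      change w • x • a = x • a
      rw [← hwc' x a ha, h]
    rw [this, orderOf_one] at hwo
    exact hp.out.one_lt.ne hwo
  have hmix : ∀ a ∉ F, ∃ g : P, g • a = z • a ∧ ∀ b ∈ F, g • b = w • b := by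
    intro a ha
    have : a ∈ orbit P α := by rw [o2]; exact ha
    obtain ⟨x, rfl⟩ := this
    obtain ⟨k, hk⟩ := hMn.conj_mem' _ hwM x
    refine ⟨z ^ (1 - k) * w, ?_, fun b hb => ?_⟩
    · change (z ^ (1 - k) * w) • x • α = z • x • α
      rw [mul_smul, mul_smul, inv_smul_eq_iff] at hk
      rw [mul_smul, hk, ← mul_smul x, hzk, mul_smul, ← mul_smul, ← zpow_add]
      simp
    · rw [mul_smul]
      have : w • b ∈ F := (hFinv w b).mpr hb
      exact (stabilizer P (w • b)).zpow_mem this _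
  let σ : Equiv.Perm Ω :=
    { toFun := fun a => if a ∈ F then w • a else z • a
      invFun := fun a => if a ∈ F then w⁻¹ • a else z⁻¹ • a
      left_inv := by
        intro a
        by_cases ha : a ∈ F <;> simp [ha, hFinv]
      right_inv := by
        intro a
        by_cases ha : a ∈ F <;> simp [ha, hFinv] }
  have s1 : ∀ a ∈ F, σ a = w • a := fun a ha => if_pos ha
  have s2 : ∀ a ∉ F, σ a = z • a := fun a ha => if_neg ha
  refine ⟨σ, fun a b => ?_, ?_, fun a => ?_⟩
  · by_cases ha : a ∈ F <;> by_cases hb : b ∈ F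
    · exact ⟨w, s1 a ha, s1 b hb⟩
    · obtain ⟨g, h1, h2⟩ := hmix b hb
      exact ⟨g, by rw [s1 a ha, h2 a ha], by rw [s2 b hb, h1]⟩
    · obtain ⟨g, h1, h2⟩ := hmix a ha
      exact ⟨g, by rw [s2 a ha, h1], by rw [s1 b hb, h2 b hb]⟩
    · exact ⟨z, s2 a ha, s2 b hb⟩
  · have t1 : ∀ k : ℕ, ∀ a ∈ F, (σ ^ k) a = w ^ k • a := by
      intro k a ha
      induction k with
      | zero => simp
      | succ k ih => rw [pow_succ', Equiv.Perm.mul_apply, ih, s1 _ ((hFinv _ _).mpr ha), pow_succ', mul_smul]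
    have t2 : ∀ k : ℕ, ∀ a ∉ F, (σ ^ k) a = z ^ k • a := by
      intro k a ha
      induction k with
      | zero => simp
      | succ k ih =>
        rw [pow_succ', Equiv.Perm.mul_apply, ih, s2 _ (fun h => ha ((hFinv _ _).mp h)), pow_succ', mul_smul]
    refine Equiv.ext (fun a => ?_)
    by_cases ha : a ∈ F
    · rw [t1 p a ha, hwp a ha]; rfl
    · rw [t2 p a ha, hzp, one_smul]; rfl
  · by_cases ha : a ∈ F
    · rw [s1 a ha]; exact hwf a ha
    · rw [s2 a ha]; exact ha

/-- Let G act faithfully and transitively on a finite set with 2p² points, p a prime, and suppose G is 2-closed: every permutation of the set which, on each ordered pair of points, agrees with some element of G, is itself induced by an element of G. Then some element of G of prime order fixes no point. -/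
theorem result {G Ω : Type*} [Group G] [Finite G] [MulAction G Ω] [FaithfulSMul G Ω] [Finite Ω]
    (htrans : MulAction.IsPretransitive G Ω) (p : ℕ) (hp : p.Prime) (hcard : Nat.card Ω = 2 * p ^ 2)
    (hcl : ∀ σ : Equiv.Perm Ω, (∀ a b : Ω, ∃ g : G, σ a = g • a ∧ σ b = g • b) → ∃ g : G, ∀ a : Ω, σ a = g • a) :
    ∃ g : G, (orderOf g).Prime ∧ ∀ ω : Ω, g • ω ≠ ω := by
  have := Fact.mk hp
  obtain ⟨P⟩ : Nonempty (Sylow p G) := inferInstance
  obtain ⟨σ, h1, h2, h3⟩ := main (P := P) (Ω := Ω) p P.isPGroup' hcard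
    (CfsgH6.pow_dvd_index_stabilizer_sylow htrans P 2 (by rw [hcard]; exact Dvd.intro_left _ rfl))
  obtain ⟨g, hg⟩ := hcl σ (fun a b => by
    obtain ⟨g, h, h'⟩ := h1 a b
    exact ⟨g, h, h'⟩)
  have hσ : σ = MulAction.toPermHom G Ω g := Equiv.ext hg
  have hne : Nonempty Ω := by
    apply (Nat.card_pos_iff.mp _).1
    have := pow_pos hp.pos 2
    omega
  refine ⟨g, ?_, fun ω => by rw [← hg]; exact h3 ω⟩
  have : orderOf g = p := by
    apply orderOf_eq_prime
    · apply MulAction.toPerm_injective (β := Ω)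
      change MulAction.toPermHom G Ω (g ^ p) = MulAction.toPermHom G Ω 1
      rw [map_pow, ← hσ, h2, map_one]
    · rintro rfl
      obtain ⟨a⟩ := hne
      apply h3 a
      rw [hg, one_smul]
  rw [this]; exact hp

end Cfsg.Agent.S3557
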