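import Cfsg.Statements.S3579
import Cfsg.Agent.H5.El8

set_option autoImplicit false
open Cfsg

namespace Cfsg.Agent.S3579

/-- Let G act faithfully and transitively on a finite set with 2pq points, where p and q are distinct odd primes. Then G contains an element of prime order fixing no point (G is not elusive). -/
theorem result {G Ω : Type*} [Group G] [Finite G] [MulAction G Ω] [FaithfulSMul G Ω] [Finite Ω]
    (htrans : MulAction.IsPretransitive G Ω) (p q : ℕ) (hp : p.Prime) (hq : q.Prime) (hp2 : p ≠ 2) (hq2 : q ≠ 2)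
    (hpq : p ≠ q) (hcard : Nat.card Ω = 2 * p * q) :
    ∃ g : G, (orderOf g).Prime ∧ ∀ ω : Ω, g • ω ≠ ω := by
  by_contra hc
  push Not at hc
  have := Fintype.ofFinite G
  have tr : ∀ x y : Ω, ∃ g ∈ (⊤ : Subgroup G), g • x = y := fun x y =>
    (htrans.exists_smul_eq x y).imp fun _ e => ⟨trivial, e⟩
  rcases lt_or_gt_of_ne hpq with h | h
  · exact CfsgH5.Elu.Hyp.false ⟨hq, hp, hp2, h, tr, by rw [hcard, mul_right_comm], hc⟩
  · exact CfsgH5.Elu.Hyp.false ⟨hp, hq, hq2, h, tr, hcard, hc⟩

end Cfsg.Agent.S3579
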