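import Cfsg.Statements.S3595
import Cfsg.Agent.H8.M23E
import Cfsg.Agent.H8.M24Nse

set_option autoImplicit false
open Cfsg

namespace Cfsg.Agent.S3595

/-- Let M be the Mathieu group M₂₃ (order 10200960). If a finite group G has the same order as M and the same set of values of the function 'number of elements of order n' (taken over the element orders n that occur), then G is isomorphic to M. -/
theorem result {G : Type*} [Group G] [Finite G]
    (hcard : Nat.card G = Nat.card ↥Cfsg.Spor.M23)
    (hnse : {c : ℕ | 0 < c ∧ ∃ n : ℕ, c = Nat.card {g : G // orderOf g = n}} =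
      {c : ℕ | 0 < c ∧ ∃ n : ℕ, c = Nat.card {g : ↥Cfsg.Spor.M23 // orderOf g = n}}) :
    Nonempty (G ≃* ↥Cfsg.Spor.M23) := by
  haveI : Finite Cfsg.Spor.M23 := Nat.finite_of_card_ne_zero (by rw [CfsgH8.M24.card23]; norm_num)
  exact (CfsgH8.Mat.nse23_of_eq (hcard.trans CfsgH8.M24.card23)
    (hnse.trans CfsgH8.M24.nse23)).equiv
    (CfsgH8.Mat.nse23_of_eq CfsgH8.M24.card23 CfsgH8.M24.nse23)

end Cfsg.Agent.S3595
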