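import Cfsg.Statements.S3617
import Cfsg.Agent.H4.QR5
import Cfsg.Agent.H7.QT3
import Cfsg.Agent.L.QM
import Cfsg.Agent.H1.QS
import Cfsg.Agent.H2.QN
import Cfsg.Agent.H8.QO4
import Cfsg.Agent.H3.QF
import Cfsg.Agent.H5.QE3

set_option autoImplicit false
open Cfsg

namespace Cfsg.Agent.S3617

/-- Let G act faithfully and primitively on a finite set, and suppose that for some point α the stabilizer of α acts doubly transitively on one of its orbits of size at least 2 among the remaining points. Then either G is almost simple (it has a non-abelian simple normal subgroup with trivial centralizer), or G has a unique minimal normal subgroup and that subgroup acts regularly (transitively with trivial point stabilizers). -/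
theorem result {G Ω : Type*} [Group G] [Finite G] [MulAction G Ω] [FaithfulSMul G Ω] [Finite Ω]
    (hprim : MulAction.IsPreprimitive G Ω) (α β : Ω) (hβ : β ≠ α)
    (h2 : 2 ≤ Nat.card ↥(MulAction.orbit ↥(MulAction.stabilizer G α) β))
    (h2t : MulAction.IsMultiplyPretransitive ↥(MulAction.stabilizer G α) ↥(MulAction.orbit ↥(MulAction.stabilizer G α) β) 2) :
    (∃ T : Subgroup G, T.Normal ∧ IsSimpleGroup ↥T ∧ ¬ IsMulCommutative ↥T ∧ Subgroup.centralizer (T : Set G) = ⊥) ∨
    (∃ N : Subgroup G, N.Normal ∧ N ≠ ⊥ ∧ (∀ M : Subgroup G, M.Normal → M ≠ ⊥ → N ≤ M) ∧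
      MulAction.IsPretransitive ↥N Ω ∧ ∀ ω : Ω, MulAction.stabilizer ↥N ω = ⊥) := by
  refine CfsgQR.reduction (CfsgFS.core_of_main fun p r G _ _ K h =>
    CfsgQ.C2.main (fun G _ _ K m => ?_) G K h) hprim α β hβ h2t
  have b := m.bk
  have na := b.na
  by_cases hr : r = 2
  · subst hr
    exact b.fin na (b.sing na)
  · exact b.odd na hr

end Cfsg.Agent.S3617
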