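import Cfsg.Statements.S3645
import Cfsg.Agent.H3.U3Fin
import Cfsg.Agent.H4.C2
import Cfsg.Agent.H4.C3

set_option autoImplicit false
open Cfsg CfsgB0 CfsgU3

namespace Cfsg.Agent.S3645

/-- Let S be one of the simple groups PSL(2, q) for q ∈ {23, 25, 47, 81}, PSU(3, q) for q ∈ {7, 8, 9}, or the Suzuki group Sz(q) for q ∈ {8, 32}, and let G be a finite group with the same order as S whose character degree graph equals that of S (same primes dividing some irreducible complex character degree, same pairs of distinct primes whose product divides some degree). Then G is isomorphic to S. -/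
theorem result {S : Type*} [Group S] [Finite S]
    (hS : (∃ (F : Type) (_ : Field F) (_ : Fintype F), Fintype.card F ∈ ({23, 25, 47, 81} : Finset ℕ) ∧ Nonempty (S ≃* Matrix.ProjectiveSpecialLinearGroup (Fin 2) F)) ∨
      (∃ (F : Type) (_ : Field F) (_ : Fintype F) (q : ℕ), q ∈ ({7, 8, 9} : Finset ℕ) ∧ Fintype.card F = q ^ 2 ∧ Nonempty (S ≃* Cfsg.PSU 3 F q)) ∨
      (∃ (F : Type) (_ : Field F) (_ : Fintype F) (m : ℕ), m ∈ ({1, 2} : Finset ℕ) ∧ Fintype.card F = 2 ^ (2 * m + 1) ∧ Nonempty (S ≃* ↥(Cfsg.Lie.Sz F (2 ^ (m + 1))))))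
    {G : Type*} [Group G] [Finite G] (hcard : Nat.card G = Nat.card S) (hΔ : Cfsg.degreePrimes G = Cfsg.degreePrimes S ∧ Cfsg.degreeGraph G = Cfsg.degreeGraph S) :
    Nonempty (G ≃* S) := by
  rcases hS with ⟨F, _, _, h, ⟨f⟩⟩ | ⟨F, _, _, q, h, hF, ⟨f⟩⟩ | ⟨F, _, _, m, h, hF, ⟨f⟩⟩ <;>
    simp only [Finset.mem_insert, Finset.mem_singleton] at h
  · rcases h with h | h | h | h
    exacts [rec_l23 h f hcard hΔ.1, rec_l25 h f hcard hΔ.1, rec_l47 h f hcard hΔ.1,
      rec_l81 h f hcard hΔ.1]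
  · rcases h with rfl | rfl | rfl
    exacts [rec_u3 (r := 7) (d := 1) (p := 43) (by simp [Par]) hF f hcard hΔ.1,
      rec_u3 (r := 2) (d := 3) (p := 19) (by simp [Par]) hF f hcard hΔ.1,
      rec_u3 (r := 3) (d := 1) (p := 73) (by simp [Par]) hF f hcard hΔ.1]
  · rcases h with rfl | rfl
    exacts [rec_sz8 hF f hcard hΔ.1, rec_sz32 hF f hcard hΔ.1]

end Cfsg.Agent.S3645
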