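import Cfsg.Statements.S3701
import Cfsg.Agent.H8.Row3

set_option autoImplicit false
open Cfsg

namespace Cfsg.Agent.S3701

open CfsgH8

theorem alg {ι : Type*} [Fintype ι] {d U : ι → ℂ} (hd : ∀ i, d i ≠ 0) {i0 : ι} (hd0 : d i0 = 1)
    {a1 a2 a3 b1 b2 v : ι → ℤ} (ha1 : R3 d U a1 (-6)) (ha2 : R3 d U a2 (-6))
    (ha3 : R3 d U a3 (-6)) (hb1 : R3 d U b1 0) (hb2 : R3 d U b2 0) (hv : R3 d U v (-3))
    (h1 : a1 i0 = -1) (h2 : a2 i0 = -1) (h3 : a3 i0 = -1) (h4 : b1 i0 = 0) (h5 : b2 i0 = 0)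
    (h6 : v i0 = 0) (a1b2 : ∑ i, a1 i * b2 i = 1) (a2b1 : ∑ i, a2 i * b1 i = 1)
    (a3b1 : ∑ i, a3 i * b1 i = 1) (b1b2 : ∑ i, b1 i * b2 i = 1) (a2a3 : ∑ i, a2 i * a3 i = 1)
    (a1b1 : ∑ i, a1 i * b1 i = 0) (va1 : ∑ i, a1 i * v i = -1) (vb1 : ∑ i, b1 i * v i = -1) :
    ∃ x y, a1 x * d x = -1 ∧ a1 x ≠ 0 ∧ b2 x ≠ 0 ∧ a2 y * d y = -1 ∧ a2 y ≠ 0 ∧ b1 y ≠ 0 := by
  obtain ⟨x1, hx1, hx1'⟩ := exists_eq_of_pos ha1.n.le hb2.n.le (by omega)
  obtain ⟨x2, hx2, hx2'⟩ := exists_eq_of_pos ha2.n.le hb1.n.le (by omega)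
  obtain ⟨x3, hx3, hx3'⟩ := exists_eq_of_pos ha3.n.le hb1.n.le (by omega)
  obtain ⟨y, hy, hy'⟩ := exists_eq_of_pos hb1.n.le hb2.n.le (by omega)
  obtain ⟨s, hs, hs'⟩ := exists_eq_neg_of_neg ha1.n.le hv.n.le (by omega)
  obtain ⟨t, ht, ht'⟩ := exists_eq_neg_of_neg hb1.n.le hv.n.le (by omega)
  have u1 : U x1 = U y := hb2.eq_of_zero hd (by omega) (by omega)
  have u2 : U x2 = U y := hb1.eq_of_zero hd (by omega) hy
  have u3 : U x3 = U y := hb1.eq_of_zero hd (by omega) hy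
  have ut : U t = U y := hb1.eq_of_zero hd ht hy
  have n1 : i0 ≠ x1 := by rintro rfl; omega
  have n2 : i0 ≠ x2 := by rintro rfl; omega
  have n3 : i0 ≠ x3 := by rintro rfl; omega
  have ns : i0 ≠ s := by rintro rfl; omega
  obtain ⟨e1', e1⟩ := ha1.dist hd n1 (by omega) hx1
  obtain ⟨e2', e2⟩ := ha2.dist hd n2 (by omega) hx2
  obtain ⟨-, e3⟩ := ha3.dist hd n3 (by omega) hx3
  rw [u1, h1, hd0] at e1
  rw [u2, h2, hd0] at e2
  rw [u3, h3, hd0] at e3
  push_cast at e1 e2 e3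
  set w := (U i0 - U y) * (U i0 - U y) with hw
  have hw6 : w - 6 ≠ 0 := fun h => by
    have : (6 : ℂ) = 0 := by linear_combination -e1 - (a1 x1 * d x1) * h
    norm_num at this
  have e12 : (a2 x2 : ℂ) * d x2 = a1 x1 * d x1 :=
    mul_left_cancel₀ hw6 (by linear_combination e1 - e2)
  have e13 : (a3 x3 : ℂ) * d x3 = a1 x1 * d x1 :=
    mul_left_cancel₀ hw6 (by linear_combination e1 - e3)
  have n23 : x2 ≠ x3 := by
    rintro rfl
    obtain ⟨k, -, -, hk, -, hF⟩ := norm3_third ha2.n n2 (by omega) hx2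
    have h7 := a2a3
    rw [hF _ (fun l hl => by simp [hl]), h2, h3, ← hx3', hx2'] at h7
    have h8 := one_le_mul_self hx2
    have h9 : a3 k ≠ 0 := by rintro h; rw [h] at h7; omega
    obtain ⟨k', hk1, hk2, hk', hs3, hF'⟩ := norm3_third ha3.n n2 (by omega) hx3
    have h10 := ha2.h0
    have h11 := ha3.h0
    rw [hF _ (fun l hl => by simp [hl])] at h10
    rw [hF' _ (fun l hl => by simp [hl])] at h11
    have hkk : k = k' := by
      rcases hs3 k h9 with rfl | rfl | h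
      · rw [h2, h3] at h7; omega
      · rw [← hx3', hx2'] at h7; omega
      · exact h
    subst hkk
    have h12 : a3 k = - a2 k := by
      rcases unit_of_mul_self_le hk (ha2.n ▸ sq_le_sum_sq a2 k) with h | h <;>
      rcases unit_of_mul_self_le h9 (ha3.n ▸ sq_le_sum_sq a3 k) with h' | h' <;>
      rw [h, h'] at h7 ⊢ <;> omega
    rw [h2] at h10
    rw [h3, h12, ← hx3', hx2'] at h11
    push_cast at h10 h11
    apply mul_ne_zero (show (a2 k : ℂ) ≠ 0 by exact_mod_cast hk) (hd k)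
    linear_combination (h10 - h11) / 2
  obtain ⟨k1, -, nk1, hk1, hs1, hF1⟩ := norm3_third ha1.n n1 (by omega) hx1
  have uk1 : U k1 ≠ U y := fun h =>
    nk1 (ha1.eq_of_ne_zero hd (by norm_num) hk1 hx1 (h.trans u1.symm))
  have hsk : s = k1 := by
    rcases hs1 s hs with rfl | rfl | h
    · exact absurd rfl ns
    · exfalso
      obtain rfl : s = t := hv.eq_of_ne_zero hd (by norm_num) (by omega) (by omega)
        (u1.trans ut.symm)
      have h7 := a1b1
      rw [hF1 _ (fun l hl => by simp [hl]), h4] at h7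
      have h8 : b1 k1 ≠ 0 := by
        intro h
        rw [h] at h7
        exact mul_ne_zero hs ht (by omega)
      exact uk1 (hb1.eq_of_zero hd h8 hy)
    · exact h
  subst hsk
  have nst : s ≠ t := by
    rintro rfl
    exact uk1 ut
  obtain ⟨k2, -, -, hk2, hs2, hF2⟩ := norm3_third hb1.n n23 (by omega) (by omega)
  have f1 := ha1.h0
  have f2 := hb1.h0
  rw [hF1 _ (fun l hl => by simp [hl]), h1, hd0] at f1
  rw [hF2 _ (fun l hl => by simp [hl]), hx2', hx3', e12, e13] at f2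
  obtain ⟨-, g1⟩ := ha1.dist hd nk1 hs hx1
  obtain ⟨-, g2⟩ := hv.dist hd nst (by omega) (by omega)
  rw [u1] at g1
  rw [ut, hs', ht'] at g2
  push_cast at f1 g2
  have hE : (a1 x1 : ℂ) * d x1 ≠ 0 := mul_ne_zero (by exact_mod_cast hx1) (hd _)
  have key : (a1 x1 : ℂ) * d x1 = -1 := by
    have hS : (a1 s : ℂ) * d s = 1 - a1 x1 * d x1 := by linear_combination f1
    have ht2 : (b1 t : ℂ) * d t = a1 x1 * d x1 ∨ (b1 t : ℂ) * d t = -2 * (a1 x1 * d x1) := by
      rcases hs2 t ht with rfl | rfl | rfl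
      · left; rw [hx2', e12]
      · left; rw [hx3', e13]
      · right; linear_combination f2
    simp only [neg_mul] at g2
    rw [hS] at g1 g2
    generalize (a1 x1 : ℂ) * d x1 = E at *
    generalize (U s - U y) * (U s - U y) = w' at *
    rcases ht2 with h | h <;> rw [h] at g2
    · exfalso
      have : (9 : ℂ) = 0 := by linear_combination g1 - g2
      norm_num at this
    · linear_combination ((2 : ℂ) / 9) * g1 + (1 / 9 : ℂ) * g2
  exact ⟨x1, x2, key, hx1, by omega, e12.trans key, hx2, by omega⟩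


/-- sign action -/
def sg (s : Bool) (x : Fin 3) : Fin 3 := if s then -x else x

/-- the model of the group `3^3 : 2^2` -/
@[ext] structure M where
  a : Fin 3
  b : Fin 3
  c : Fin 3
  s : Bool
  t : Bool
  deriving DecidableEq, Fintype

theorem sg_assoc : ∀ (s s' : Bool) (x y z : Fin 3),
    x + sg s y + sg (xor s s') z = x + sg s (y + sg s' z) := by decide

theorem xor_four : ∀ a b c d : Bool, xor (xor a b) (xor c d) = xor (xor a c) (xor b d) := by decide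

theorem sg_assoc' (s t s' t' : Bool) (x y z : Fin 3) :
    x + sg (xor s t) y + sg (xor (xor s s') (xor t t')) z =
      x + sg (xor s t) (y + sg (xor s' t') z) := by
  rw [xor_four, sg_assoc]

instance instGroupM : Group M where
  mul x y := ⟨x.a + sg x.s y.a, x.b + sg x.t y.b, x.c + sg (xor x.s x.t) y.c, xor x.s y.s,
    xor x.t y.t⟩
  one := ⟨0, 0, 0, false, false⟩
  inv x := ⟨-sg x.s x.a, -sg x.t x.b, -sg (xor x.s x.t) x.c, x.s, x.t⟩
  mul_assoc x y z := M.ext (sg_assoc _ _ _ _ _) (sg_assoc _ _ _ _ _) (sg_assoc' _ _ _ _ _ _ _)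
    (Bool.xor_assoc _ _ _) (Bool.xor_assoc _ _ _)
  one_mul := by decide +kernel
  mul_one := by decide +kernel
  inv_mul_cancel := by decide +kernel

def sn (s : Bool) : ℤ := if s then -1 else 1
def pn (s : Bool) (x : Fin 3) : ℤ := if s then 0 else if x = 0 then 2 else -1

theorem sn_xor : ∀ s t, sn (xor s t) = sn s * sn t := by decide

theorem pn_eq : ∀ (s : Bool) (a : Fin 3),
    ((Finset.univ.filter fun x => a + sg s x = x).card : ℤ) - 1 = pn s a := by decide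

theorem zero_add_sg : ∀ x : Fin 3, 0 + sg false x = x := by decide

def l1 (m : M) : ℤ := sn m.s
def l2 (m : M) : ℤ := sn m.t
def l3 (m : M) : ℤ := sn (xor m.s m.t)
def p1 (m : M) : ℤ := pn m.s m.a
def p2 (m : M) : ℤ := pn m.t m.b
def p3 (m : M) : ℤ := pn (xor m.s m.t) m.c

theorem gl1 : IsGenInt l1 := .of_hom _ rfl fun _ _ => sn_xor _ _
theorem gl2 : IsGenInt l2 := .of_hom _ rfl fun _ _ => sn_xor _ _
theorem gl3 : IsGenInt l3 := .of_hom _ rfl fun _ _ => (congrArg sn (xor_four _ _ _ _)).trans (sn_xor _ _)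
theorem gp1 : IsGenInt p1 :=
  ((IsGenInt.of_action (fun (m : M) (x : Fin 3) => m.a + sg m.s x) zero_add_sg
    (fun _ _ _ => sg_assoc _ _ _ _ _)).sub .one).congr fun _ => pn_eq _ _
theorem gp2 : IsGenInt p2 :=
  ((IsGenInt.of_action (fun (m : M) (x : Fin 3) => m.b + sg m.t x) zero_add_sg
    (fun _ _ _ => sg_assoc _ _ _ _ _)).sub .one).congr fun _ => pn_eq _ _
theorem gp3 : IsGenInt p3 :=
  ((IsGenInt.of_action (fun (m : M) (x : Fin 3) => m.c + sg (xor m.s m.t) x) zero_add_sg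
    (fun _ _ _ => sg_assoc' _ _ _ _ _ _ _)).sub .one).congr fun _ => pn_eq _ _

def a1 (m : M) : ℤ := p1 m - 1 - l1 m
def a2 (m : M) : ℤ := p2 m - 1 - l2 m
def a3 (m : M) : ℤ := p3 m - 1 - l3 m
def b1 (m : M) : ℤ := p1 m * l2 m - l2 m - l3 m
def b2 (m : M) : ℤ := p2 m * l1 m - l1 m - l3 m
def vv (m : M) : ℤ := p1 m * p2 m - p1 m - p1 m * l2 m

theorem ga1 : IsGenInt a1 := (gp1.sub .one).sub gl1
theorem ga2 : IsGenInt a2 := (gp2.sub .one).sub gl2
theorem ga3 : IsGenInt a3 := (gp3.sub .one).sub gl3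
theorem gb1 : IsGenInt b1 := ((gp1.mul gl2).sub gl2).sub gl3
theorem gb2 : IsGenInt b2 := ((gp2.mul gl1).sub gl1).sub gl3
theorem gvv : IsGenInt vv := ((gp1.mul gp2).sub gp1).sub (gp1.mul gl2)

def invs : List M := [⟨0, 0, 0, false, true⟩, ⟨0, 0, 0, true, false⟩, ⟨0, 0, 0, true, true⟩, ⟨0, 0, 1, false, true⟩, ⟨0, 0, 1, true, false⟩, ⟨0, 0, 2, false, true⟩, ⟨0, 0, 2, true, false⟩, ⟨0, 1, 0, false, true⟩, ⟨0, 1, 0, true, true⟩, ⟨0, 1, 1, false, true⟩, ⟨0, 1, 2, false, true⟩, ⟨0, 2, 0, false, true⟩, ⟨0, 2, 0, true, true⟩, ⟨0, 2, 1, false, true⟩, ⟨0, 2, 2, false, true⟩, ⟨1, 0, 0, true, false⟩, ⟨1, 0, 0, true, true⟩, ⟨1, 0, 1, true, false⟩, ⟨1, 0, 2, true, false⟩, ⟨1, 1, 0, true, true⟩, ⟨1, 2, 0, true, true⟩, ⟨2, 0, 0, true, false⟩, ⟨2, 0, 0, true, true⟩, ⟨2, 0, 1, true, false⟩, ⟨2, 0, 2, true, false⟩, ⟨2, 1, 0, true, true⟩, ⟨2, 2, 0, true, true⟩]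

theorem invs_nodup : invs.Nodup := by decide +kernel

theorem mem_invs : ∀ m : M, (m * m = 1 ∧ m ≠ 1) ↔ m ∈ invs := by decide +kernel

theorem supp : ∀ m : M, m * m = 1 →
    a1 m = 0 ∧ a2 m = 0 ∧ a3 m = 0 ∧ b1 m = 0 ∧ b2 m = 0 ∧ vv m = 0 := by decide +kernel

theorem sq_cube : ∀ m : M, (m * m) ^ 3 = 1 := by decide +kernel

theorem cube_iff : ∀ m : M, m ^ 3 = 1 ↔ (m.s = false ∧ m.t = false) := by decide +kernel

theorem card_cube : Fintype.card {m : M // m ^ 3 = 1} = 27 := by decide +kernel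

theorem comm_of_cube (x y : M) (hx : x ^ 3 = 1) (hy : y ^ 3 = 1) : x * y = y * x := by
  rw [cube_iff] at hx hy
  obtain ⟨a, b, c, s, t⟩ := x
  obtain ⟨a', b', c', s', t'⟩ := y
  obtain ⟨rfl, rfl⟩ := hx
  obtain ⟨rfl, rfl⟩ := hy
  exact M.ext (add_comm a a') (add_comm b b') (add_comm c c') rfl rfl

def gA : M := ⟨1, 0, 0, false, false⟩
def gB : M := ⟨0, 1, 0, false, false⟩
def gC : M := ⟨0, 0, 1, false, false⟩
def gU : M := ⟨1, 1, 0, true, true⟩
def gV : M := ⟨1, 0, 1, true, false⟩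

theorem gen : ∀ m : M, ∃ i j k : Fin 3,
    m = gA ^ i.val * gB ^ j.val * gC ^ k.val * gU ^ (if m.t then 1 else 0) *
      gV ^ (if xor m.s m.t then 1 else 0) := by
  decide +kernel

instance instActM : MulAction M (Fin 3 × Fin 3) where
  smul m p := (p.1, ![m.a, m.b, m.c] p.1 + sg (![m.s, m.t, xor m.s m.t] p.1) p.2)
  one_smul := by decide +kernel
  mul_smul := by
    rintro g h ⟨b, x⟩
    fin_cases b
    · exact Prod.ext rfl (sg_assoc _ _ _ _ _)
    · exact Prod.ext rfl (sg_assoc _ _ _ _ _)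
    · exact Prod.ext rfl (sg_assoc' _ _ _ _ _ _ _)

def F : M →* Equiv.Perm (Fin 9) :=
  ((finProdFinEquiv (m := 3) (n := 3)).permCongrHom).toMonoidHom.comp
    (MulAction.toPermHom M (Fin 3 × Fin 3))

theorem F_inj : Function.Injective F := by
  refine ((finProdFinEquiv (m := 3) (n := 3)).permCongrHom.injective).comp
    ((injective_iff_map_eq_one _).mpr fun m hm => ?_)
  have h : ∀ m : M, (∀ p : Fin 3 × Fin 3, m • p = p) → m = 1 := by decide +kernel
  exact h m fun p => DFunLike.congr_fun hm p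

theorem F_range : F.range = Subgroup.closure ({Equiv.swap (0 : Fin 9) 1 * Equiv.swap 1 2, Equiv.swap (3 : Fin 9) 4 * Equiv.swap 4 5, Equiv.swap (6 : Fin 9) 7 * Equiv.swap 7 8,
        Equiv.swap (0 : Fin 9) 1 * Equiv.swap 3 4, Equiv.swap (0 : Fin 9) 1 * Equiv.swap 6 7} : Set (Equiv.Perm (Fin 9))) := by
  have hA : F gA = Equiv.swap (0 : Fin 9) 1 * Equiv.swap 1 2 := by decide +kernel
  have hB : F gB = Equiv.swap (3 : Fin 9) 4 * Equiv.swap 4 5 := by decide +kernel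
  have hC : F gC = Equiv.swap (6 : Fin 9) 7 * Equiv.swap 7 8 := by decide +kernel
  have hU : F gU = Equiv.swap (0 : Fin 9) 1 * Equiv.swap 3 4 := by decide +kernel
  have hV : F gV = Equiv.swap (0 : Fin 9) 1 * Equiv.swap 6 7 := by decide +kernel
  rw [← hA, ← hB, ← hC, ← hU, ← hV]
  apply le_antisymm
  · rintro _ ⟨m, rfl⟩
    obtain ⟨i, j, k, h⟩ := gen m
    rw [h]
    simp only [map_mul, map_pow]
    refine mul_mem (mul_mem (mul_mem (mul_mem ?_ ?_) ?_) ?_) ?_ <;>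
      exact pow_mem (Subgroup.subset_closure (by simp)) _
  · rw [Subgroup.closure_le]
    rintro x (rfl | rfl | rfl | rfl | rfl) <;> exact ⟨_, rfl⟩

def lin (e1 e2 : Bool) (m : M) : ℤ := sn (e1 && m.t) * sn (e2 && xor m.s m.t)

theorem hom_eq (l : M →* ℂ) : ∃ e1 e2 : Bool, ∀ m, l m = lin e1 e2 m := by
  have h0 := hom_commutator l
  have hA : l gA = 1 := by rw [← h0 gU gA]; congr 1
  have hB : l gB = 1 := by rw [← h0 gU gB]; congr 1
  have hC : l gC = 1 := by rw [← h0 gV gC]; congr 1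
  have hU : l gU * l gU = 1 := by rw [← map_mul, ← map_one l]; congr 1
  have hV : l gV * l gV = 1 := by rw [← map_mul, ← map_one l]; congr 1
  have key : ∀ m : M, l m = l gU ^ (if m.t then 1 else 0) * l gV ^ (if xor m.s m.t then 1 else 0) := by
    intro m
    obtain ⟨i, j, k, h⟩ := gen m
    conv_lhs => rw [h]
    simp only [map_mul, map_pow, hA, hB, hC, one_pow, one_mul]
  rcases mul_self_eq_one_iff.mp hU with h1 | h1 <;> rcases mul_self_eq_one_iff.mp hV with h2 | h2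
  · refine ⟨false, false, fun m => ?_⟩
    rw [key, h1, h2, lin]
    cases m.s <;> cases m.t <;> simp [sn]
  · refine ⟨false, true, fun m => ?_⟩
    rw [key, h1, h2, lin]
    cases m.s <;> cases m.t <;> simp [sn]
  · refine ⟨true, false, fun m => ?_⟩
    rw [key, h1, h2, lin]
    cases m.s <;> cases m.t <;> simp [sn]
  · refine ⟨true, true, fun m => ?_⟩
    rw [key, h1, h2, lin]
    cases m.s <;> cases m.t <;> simp [sn]

theorem lin1 : ∀ e1 e2, ∑ m, a1 m * lin e1 e2 m ≠ 0 → ∑ m, b2 m * lin e1 e2 m ≠ 0 →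
    ∀ m, lin e1 e2 m = l1 m := by decide +kernel

theorem lin2 : ∀ e1 e2, ∑ m, a2 m * lin e1 e2 m ≠ 0 → ∑ m, b1 m * lin e1 e2 m ≠ 0 →
    ∀ m, lin e1 e2 m = l2 m := by decide +kernel

theorem r3 {G : Type*} [Group G] [Fintype G] {f : M →* G} (hf : Function.Injective f)
    (hA : IsTIModel f fun m => m * m ≠ 1) {θ : M → ℤ} {c : IrrCharacter G → ℤ}
    (h : IsRow f θ c) (hθ : IsGenInt θ) (hs : ∀ m, m * m = 1 → θ m = 0)
    (hn : ∑ m, θ m * θ m = Fintype.card M * 3) {B : ℤ}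
    (hT : (invs.map fun x => (invs.map fun y => θ (x * y)).sum).sum = B * 108) :
    R3 (fun χ : IrrCharacter G => (χ : G → ℂ) 1) (cv (ind fun g : G => g * g = 1 ∧ g ≠ 1)) c B := by
  have hP : ∀ g x : G, (g * g = 1 ∧ g ≠ 1) → (x * g * x⁻¹ * (x * g * x⁻¹) = 1 ∧ x * g * x⁻¹ ≠ 1) := by
    rintro g x ⟨h1, h2⟩
    refine ⟨by rw [conj_mul, h1, mul_one, mul_inv_cancel], by simpa using h2⟩
  have hm : ∀ m, (f m * f m = 1 ∧ f m ≠ 1) ↔ m ∈ invs := by
    intro m
    rw [← mem_invs, ← map_mul, map_eq_one_iff f hf, Ne, map_eq_one_iff f hf]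
  refine ⟨h.inner h hf hA hθ (fun m hm => hs m (not_not.mp hm)) (fun m hm => hs m (not_not.mp hm)) hn,
    h.deg hf (hs 1 (mul_one 1)), h.first_ind hP fun m h1 => hs m ((mem_invs m).mpr ((hm m).mp h1)).1,
    ?_⟩
  rw [h.second_list hf hP hP (fun x y hx hy m hm hxy => hA.mem_of_invol
    (fun m hm h => hm (by rw [← mul_inv_rev, inv_eq_one] at h; exact h)) hx.1 hy.1
    (fun h => hm (hs m h)) hxy) invs_nodup invs_nodup hm hm hT,
    show Fintype.card M = 108 by decide +kernel]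
  push_cast
  ring


/-- Let H₀ ≤ Sym(9) be generated by the 3-cycles (1 2 3), (4 5 6), (7 8 9) and the involutions (1 2)(4 5), (1 2)(7 8) (a group of order 108, elementary abelian of order 27 extended by a four-group). Let G be a finite group with a subgroup H ≅ H₀, and T ≤ H of order 27 (a Sylow 3-subgroup of H) with N_G(T) = H and C_G(t) ≤ H for every t ≠ 1 in T. Then G = H. -/
theorem result {G : Type*} [Group G] [Finite G] (H : Subgroup G)
    (hH : Nonempty (↥H ≃* ↥(Subgroup.closure ({Equiv.swap (0 : Fin 9) 1 * Equiv.swap 1 2, Equiv.swap (3 : Fin 9) 4 * Equiv.swap 4 5, Equiv.swap (6 : Fin 9) 7 * Equiv.swap 7 8,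
        Equiv.swap (0 : Fin 9) 1 * Equiv.swap 3 4, Equiv.swap (0 : Fin 9) 1 * Equiv.swap 6 7} : Set (Equiv.Perm (Fin 9))))))
    (T : Subgroup G) (hTH : T ≤ H) (hT : Nat.card T = 27) (hN : Subgroup.normalizer (T : Set G) = H)
    (hC : ∀ t ∈ T, t ≠ 1 → Subgroup.centralizer ({t} : Set G) ≤ H) : H = ⊤ := by
  classical
  let _ := Fintype.ofFinite G
  obtain ⟨e⟩ := hH
  obtain ⟨f, hf, hr⟩ := exists_model_hom e F F_inj F_range
  have hT3 : ∀ m, f m ∈ T ↔ m ^ 3 = 1 := by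
    have h1 : ∀ m, f m ∈ T → m ^ 3 = 1 := by
      intro m hm
      have h2 : m ^ 27 = 1 := by
        apply hf
        rw [map_pow, map_one, ← hT]
        exact congrArg Subtype.val (pow_card_eq_one' (x := (⟨f m, hm⟩ : T)))
      have h3 : m ^ 6 = 1 := by rw [show 6 = 2 * 3 from rfl, pow_mul, pow_two, sq_cube]
      rw [show 27 = 6 * 4 + 3 from rfl, pow_add, pow_mul, h3, one_pow, one_mul] at h2
      exact h2
    exact mem_iff_of_card hf (hr ▸ hTH) h1
      ((Nat.card_eq_fintype_card.trans card_cube).trans hT.symm).le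
  have hTI : ∀ g : G, ∀ t ∈ T, t ≠ 1 → g * t * g⁻¹ ∈ T → g ∈ H := by
    intro g t ht ht1 hg
    rw [← hN]
    refine Subgroup.mem_normalizer_fintype fun x hx => ?_
    obtain ⟨m, rfl⟩ := (hr ▸ hTH hx : x ∈ f.range)
    obtain ⟨n, rfl⟩ := (hr ▸ hTH ht : t ∈ f.range)
    have h1 : g * f m * g⁻¹ ∈ H := hC _ hg (by simpa using ht1) (by
      rw [Subgroup.mem_centralizer_singleton_iff, conj_mul, conj_mul, ← map_mul, ← map_mul,
        comm_of_cube m n ((hT3 m).mp hx) ((hT3 n).mp ht)])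
    obtain ⟨k, hk⟩ := (hr ▸ h1 : _ ∈ f.range)
    rw [← hk, SetLike.mem_coe, hT3]
    apply hf
    rw [map_pow, hk, conj_pow, ← map_pow, (hT3 m).mp hx]
    simp
  have hA : IsTIModel f fun m => m * m ≠ 1 := by
    intro a b ha hb g hg
    rw [hr]
    refine hTI g (f (a * a)) ((hT3 _).mpr (sq_cube a)) (fun h => ha ((map_eq_one_iff f hf).mp h)) ?_
    rw [map_mul, ← conj_mul, hg, ← map_mul]
    exact (hT3 _).mpr (sq_cube b)
  obtain ⟨ca1, ra1⟩ := exists_row f ga1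
  obtain ⟨ca2, ra2⟩ := exists_row f ga2
  obtain ⟨ca3, ra3⟩ := exists_row f ga3
  obtain ⟨cb1, rb1⟩ := exists_row f gb1
  obtain ⟨cb2, rb2⟩ := exists_row f gb2
  obtain ⟨cv, rv⟩ := exists_row f gvv
  have s1 : ∀ m, ¬ m * m ≠ 1 → a1 m = 0 := fun m hm => (supp m (not_not.mp hm)).1
  have s2 : ∀ m, ¬ m * m ≠ 1 → a2 m = 0 := fun m hm => (supp m (not_not.mp hm)).2.1
  have s3 : ∀ m, ¬ m * m ≠ 1 → a3 m = 0 := fun m hm => (supp m (not_not.mp hm)).2.2.1
  have s4 : ∀ m, ¬ m * m ≠ 1 → b1 m = 0 := fun m hm => (supp m (not_not.mp hm)).2.2.2.1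
  have s5 : ∀ m, ¬ m * m ≠ 1 → b2 m = 0 := fun m hm => (supp m (not_not.mp hm)).2.2.2.2.1
  have s6 : ∀ m, ¬ m * m ≠ 1 → vv m = 0 := fun m hm => (supp m (not_not.mp hm)).2.2.2.2.2
  obtain ⟨x, y, hx1, hx2, hx3, hy1, hy2, hy3⟩ := alg (i0 := irrOne G)
    (fun χ : IrrCharacter G => CfsgL.irr_one_ne_zero χ.2) rfl
    (by simpa using r3 hf hA ra1 ga1 (fun m h => s1 m (not_not.mpr h)) (by decide +kernel) (B := -6) (by decide +kernel))
    (by simpa using r3 hf hA ra2 ga2 (fun m h => s2 m (not_not.mpr h)) (by decide +kernel) (B := -6) (by decide +kernel))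
    (by simpa using r3 hf hA ra3 ga3 (fun m h => s3 m (not_not.mpr h)) (by decide +kernel) (B := -6) (by decide +kernel))
    (by simpa using r3 hf hA rb1 gb1 (fun m h => s4 m (not_not.mpr h)) (by decide +kernel) (B := 0) (by decide +kernel))
    (by simpa using r3 hf hA rb2 gb2 (fun m h => s5 m (not_not.mpr h)) (by decide +kernel) (B := 0) (by decide +kernel))
    (by simpa using r3 hf hA rv gvv (fun m h => s6 m (not_not.mpr h)) (by decide +kernel) (B := -3) (by decide +kernel))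
    (ra1.one (by decide +kernel)) (ra2.one (by decide +kernel)) (ra3.one (by decide +kernel))
    (rb1.one (by decide +kernel)) (rb2.one (by decide +kernel)) (rv.one (by decide +kernel))
    (ra1.inner rb2 hf hA gb2 s1 s5 (by decide +kernel))
    (ra2.inner rb1 hf hA gb1 s2 s4 (by decide +kernel))
    (ra3.inner rb1 hf hA gb1 s3 s4 (by decide +kernel))
    (rb1.inner rb2 hf hA gb2 s4 s5 (by decide +kernel))
    (ra2.inner ra3 hf hA ga3 s2 s3 (by decide +kernel))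
    (ra1.inner rb1 hf hA gb1 s1 s4 (by decide +kernel))
    (ra1.inner rv hf hA gvv s1 s6 (by decide +kernel))
    (rb1.inner rv hf hA gvv s4 s6 (by decide +kernel))
  obtain ⟨k1, hk1⟩ := irr_hom_of_mul_eq x hx1
  obtain ⟨k2, hk2⟩ := irr_hom_of_mul_eq y hy1
  obtain ⟨e1, e2, he⟩ := hom_eq (k1.comp f)
  obtain ⟨e3, e4, he'⟩ := hom_eq (k2.comp f)
  have hx4 : ∀ m, (x : G → ℂ) (f m) = lin e1 e2 m := fun m => by rw [hk1]; exact he m
  have hy4 : ∀ m, (y : G → ℂ) (f m) = lin e3 e4 m := fun m => by rw [hk2]; exact he' m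
  have q1 := lin1 e1 e2 (IsRow.ne_zero ra1 hx4 hx2) (IsRow.ne_zero rb2 hx4 hx3)
  have q2 := lin2 e3 e4 (IsRow.ne_zero ra2 hy4 hy2) (IsRow.ne_zero rb1 hy4 hy3)
  have hK : ∀ m, f m ∈ k1.ker ⊓ k2.ker ↔ f m ∈ T := by
    intro m
    have h1 : k1 (f m) = l1 m := (he m).trans (by rw [q1])
    have h2 : k2 (f m) = l2 m := (he' m).trans (by rw [q2])
    rw [hT3, cube_iff, Subgroup.mem_inf, MonoidHom.mem_ker, MonoidHom.mem_ker, h1, h2, l1, l2]
    cases m.s <;> cases m.t <;> norm_num [sn]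
  have hTK : T ≤ k1.ker ⊓ k2.ker := by
    intro t ht
    obtain ⟨m, rfl⟩ := (hr ▸ hTH ht : t ∈ f.range)
    exact (hK m).mpr ht
  have hKT : k1.ker ⊓ k2.ker ≤ T := by
    refine le_of_TI_of_pp hTK (fun g hg t ht ht1 h => ?_) Nat.prime_three (z := f gA) (a := f gB)
      ((hT3 _).mpr (by decide)) ((hT3 _).mpr (by decide)) ?_ ?_ ?_ ?_
    · obtain ⟨m, rfl⟩ := (hr ▸ hTI g t ht ht1 h : g ∈ f.range)
      exact (hK m).mp hg
    · rw [orderOf_injective f hf]
      exact orderOf_eq_prime (hp := ⟨Nat.prime_three⟩) (by decide) (by decide)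
    · rw [← map_pow, map_eq_one_iff f hf]; decide
    · rw [← map_mul, ← map_mul]; congr 1
    · rw [← MonoidHom.map_zpowers, Subgroup.mem_map_iff_mem hf]
      exact not_mem_zpowers_of_lt (n := 3) (by norm_num) (by decide) (by decide)
  rw [← hN, ← le_antisymm hKT hTK]
  exact Subgroup.normalizer_eq_top _

end Cfsg.Agent.S3701
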